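import Groth.Agent.EtaleBase.InjCoh
import Groth.Agent.EtaleBase.StrictLocalZariski
import Groth.Prelude.Def_EtZar

/-!
Sheaves acyclic on affine étale schemes restrict to sheaves acyclic on the Zariski site of an affine scheme.
-/

set_option autoImplicit false

universe u

open CategoryTheory CategoryTheory.Limits CategoryTheory.Abelian AlgebraicGeometry Opposite TopologicalSpace
open Groth.SiteCohomology

namespace Groth.Misc3Zar

attribute [local instance] Groth.EtaleBase.InjCoh.jCont

/-- The property: acyclic on every affine étale scheme. -/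
def AffAcyclic {S : Scheme.{u}} (G : EtCoh.Ab S) : Prop :=
  ∀ (T : S.Etale), IsAffine T.left → ∀ i : ℕ, 1 ≤ i →
    Subsingleton (EtCoh.H T.left ((EtCoh.pull T.hom).obj G) i)

variable {C : Type*} [Category C] [Abelian C] [HasExt.{u + 1} C]

lemma exists_lift_of_subsingleton_ext {Z : C} {S : ShortComplex C} (hS : S.ShortExact)
    (h : Subsingleton (Ext Z S.X₁ 1)) (φ : Z ⟶ S.X₃) : ∃ ψ : Z ⟶ S.X₂, ψ ≫ S.g = φ := by
  obtain ⟨y, hy⟩ := Ext.covariant_sequence_exact₃ Z hS (Ext.mk₀ φ) (rfl : 0 + 1 = 1) (h.elim _ _)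
  obtain ⟨ψ, rfl⟩ := (Ext.mk₀_bijective Z S.X₂).2 y
  rw [Ext.mk₀_comp_mk₀] at hy
  exact ⟨ψ, (Ext.mk₀_bijective Z S.X₃).1 hy⟩

lemma subsingleton_ext_one {Z : C} {S : ShortComplex C} (hS : S.ShortExact)
    (h : Subsingleton (Ext Z S.X₂ 1)) (hl : ∀ φ : Z ⟶ S.X₃, ∃ ψ : Z ⟶ S.X₂, ψ ≫ S.g = φ) :
    Subsingleton (Ext Z S.X₁ 1) := by
  refine subsingleton_of_forall_eq 0 fun x => ?_
  obtain ⟨y, rfl⟩ := Ext.covariant_sequence_exact₁ Z hS x (h.elim _ _) (rfl : 0 + 1 = 1)
  obtain ⟨φ, rfl⟩ := (Ext.mk₀_bijective Z S.X₃).2 y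
  obtain ⟨ψ, rfl⟩ := hl φ
  rw [← Ext.mk₀_comp_mk₀, Ext.comp_assoc _ _ _ (zero_add 0) (zero_add 1) (by omega : 0 + 0 + 1 = 1),
    hS.comp_extClass, Ext.comp_zero]

lemma subsingleton_ext_three {Z : C} {S : ShortComplex C} (hS : S.ShortExact) {n : ℕ}
    (h2 : Subsingleton (Ext Z S.X₂ n)) (h1 : Subsingleton (Ext Z S.X₁ (n + 1))) :
    Subsingleton (Ext Z S.X₃ n) := by
  refine subsingleton_of_forall_eq 0 fun x => ?_
  obtain ⟨y, rfl⟩ := Ext.covariant_sequence_exact₃ Z hS x rfl (h1.elim _ _)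
  rw [h2.elim y 0, Ext.zero_comp]

lemma subsingleton_ext_one_succ {Z : C} {S : ShortComplex C} (hS : S.ShortExact) {n : ℕ}
    (h2 : Subsingleton (Ext Z S.X₂ (n + 1))) (h3 : Subsingleton (Ext Z S.X₃ n)) :
    Subsingleton (Ext Z S.X₁ (n + 1)) := by
  refine subsingleton_of_forall_eq 0 fun x => ?_
  obtain ⟨y, rfl⟩ := Ext.covariant_sequence_exact₁ Z hS x (h2.elim _ _) rfl
  rw [h3.elim y 0, Ext.zero_comp]

section etale

variable {S : Scheme.{u}}

lemma shortExact_pull {T : Scheme.{u}} (f : T ⟶ S) {D : ShortComplex (EtCoh.Ab S)} (hD : D.ShortExact) :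
    (D.map (EtCoh.pull f)).ShortExact := by
  have : PreservesColimitsOfSize.{0, 0} (EtCoh.pull f) := (EtCoh.pullPushAdj f).leftAdjoint_preservesColimits
  have : PreservesFiniteColimits (EtCoh.pull f) := PreservesColimitsOfSize.preservesFiniteColimits _
  exact hD.map_of_exact _

/-- Sections over the top of an acyclic situation lift. -/
lemma surjective_top {D : ShortComplex (EtCoh.Ab S)} (hD : D.ShortExact)
    (h : Subsingleton (EtCoh.H S D.X₁ 1)) :
    Function.Surjective (D.g.hom.app (op (EtCoh.top S))) := by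
  intro s
  let T : IsTerminal (EtCoh.top S) := MorphismProperty.Over.mkIdTerminal _ _
  let adj := constantSheafAdj S.smallEtaleTopology AddCommGrpCat.{u + 1} T
  let e := AddCommGrpCat.ofHom ((zmultiplesHom _ s).comp (AddEquiv.ulift : ULift.{u + 1} ℤ ≃+ ℤ).toAddMonoidHom)
  obtain ⟨ψ, hψ⟩ := exists_lift_of_subsingleton_ext hD h ((adj.homEquiv _ _).symm e)
  refine ⟨(adj.homEquiv _ _ ψ) ⟨1⟩, ?_⟩
  have h2 := adj.homEquiv_naturality_right ψ D.g
  rw [hψ, Equiv.apply_symm_apply] at h2
  have h3 := congrArg (fun φ => φ ⟨(1 : ℤ)⟩) h2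
  refine Eq.trans ?_ (h3.symm.trans (one_zsmul s))
  rfl

set_option backward.isDefEq.respectTransparency.types false in
lemma surjective_sect {D : ShortComplex (EtCoh.Ab S)} (hD : D.ShortExact) (T : S.Etale)
    (h : Subsingleton (EtCoh.H T.left ((EtCoh.pull T.hom).obj D.X₁) 1)) :
    Function.Surjective (D.g.hom.app (op T)) := by
  have : AlgebraicGeometry.Etale T.hom := T.prop
  have h1 := surjective_top (shortExact_pull T.hom hD) h
  let τ : EtCoh.pull T.hom ≅ EtShriek.restrAlong T.hom := Groth.EtaleBase.pullRestrIso T.hom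
  let ι : (EtShriek.compEtale T.hom).obj (EtCoh.top T.left) ≅ T :=
    MorphismProperty.Over.isoMk (Iso.refl _) ((Category.id_comp _).trans (Category.id_comp _).symm)
  intro s
  let s' := D.X₃.obj.map ι.hom.op s
  obtain ⟨t, ht⟩ := h1 ((τ.inv.app D.X₃).hom.app (op (EtCoh.top T.left)) s')
  refine ⟨D.X₂.obj.map ι.inv.op ((τ.hom.app D.X₂).hom.app (op (EtCoh.top T.left)) t), ?_⟩
  have hn : (τ.hom.app D.X₂).hom.app (op (EtCoh.top T.left)) ≫
      D.g.hom.app (op ((EtShriek.compEtale T.hom).obj (EtCoh.top T.left))) =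
      ((EtCoh.pull T.hom).map D.g).hom.app (op (EtCoh.top T.left)) ≫
      (τ.hom.app D.X₃).hom.app (op (EtCoh.top T.left)) :=
    (congrArg (fun φ => φ.hom.app (op (EtCoh.top T.left))) (τ.hom.naturality D.g)).symm
  have h2 : D.g.hom.app (op ((EtShriek.compEtale T.hom).obj (EtCoh.top T.left)))
      ((τ.hom.app D.X₂).hom.app (op (EtCoh.top T.left)) t) = s' := by
    have := congrArg (fun φ => φ t) hn
    refine this.trans ?_
    show (τ.hom.app D.X₃).hom.app _ (((EtCoh.pull T.hom).map D.g).hom.app _ t) = s'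
    rw [show ((EtCoh.pull T.hom).map D.g).hom.app _ t = _ from ht]
    exact congrArg (fun φ => φ.hom.app (op (EtCoh.top T.left)) s') (τ.inv_hom_id_app D.X₃)
  refine (NatTrans.naturality_apply D.g.hom ι.inv.op _).trans ?_
  refine (congrArg (fun x => D.X₃.obj.map ι.inv.op x) h2).trans ?_
  show D.X₃.obj.map ι.inv.op (D.X₃.obj.map ι.hom.op s) = s
  rw [← Functor.map_comp_apply, ← op_comp, ι.inv_hom_id, op_id]
  exact congrArg (fun φ => φ s) (D.X₃.obj.map_id _)

lemma affAcyclic_coker {D : ShortComplex (EtCoh.Ab S)} (hD : D.ShortExact) [Injective D.X₂]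
    (h : AffAcyclic D.X₁) : AffAcyclic D.X₃ := by
  intro T hT i hi
  have : AlgebraicGeometry.Etale T.hom := T.prop
  have : Injective ((EtCoh.pull T.hom).obj D.X₂) := Groth.EtaleBase.InjCoh.pull_injective T.hom D.X₂
  exact subsingleton_ext_three (shortExact_pull T.hom hD)
    (Groth.EtaleBase.InjCoh.H_injective ((EtCoh.pull T.hom).obj D.X₂) i hi) (h T hT (i + 1) (by omega))

variable [EtZar.ZarCont S]

lemma injective_resZar (I : EtCoh.Ab S) [Injective I] : Injective ((EtZar.resZar S).obj I) := by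
  let L := (EtZar.zarToEt S).sheafPullback AddCommGrpCat.{u + 1} (Opens.grothendieckTopology S) S.smallEtaleTopology
  let adj : L ⊣ EtZar.resZar S := (EtZar.zarToEt S).sheafAdjunctionContinuous _ _ _
  have : PreservesFiniteLimits L :=
    preservesFiniteLimits_sheafPullback_of_lan_mono _ _ _ _ fun φ hφ =>
      have := hφ
      mono_lan_map_of_locallyFiltered''.{u + 1} _ Groth.EtaleBase.StrictZar.locallyFiltered_zarToEt φ
  exact @injective_map_of_adjunction _ _ _ _ _ _ _ _ adj _ I ‹_›

lemma shortExact_resZar {D : ShortComplex (EtCoh.Ab S)} (hD : D.ShortExact) (h : AffAcyclic D.X₁)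
    [(EtZar.resZar S).Additive] : (D.map (EtZar.resZar S)).ShortExact := by
  let L := (EtZar.zarToEt S).sheafPullback AddCommGrpCat.{u + 1} (Opens.grothendieckTopology S) S.smallEtaleTopology
  let adj : L ⊣ EtZar.resZar S := (EtZar.zarToEt S).sheafAdjunctionContinuous _ _ _
  have : PreservesFiniteLimits (EtZar.resZar S) :=
    adj.rightAdjoint_preservesLimits.{0, 0}.preservesFiniteLimits
  have := hD.mono_f
  have hm : Mono (D.map (EtZar.resZar S)).f := inferInstanceAs (Mono ((EtZar.resZar S).map D.f))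
  have he : Epi (D.map (EtZar.resZar S)).g := by
    haveI : Sheaf.IsLocallySurjective (D.map (EtZar.resZar S)).g := by
      refine ⟨fun {U} s x hx => ?_⟩
      obtain ⟨V, hV, hxV, hVU⟩ := exists_isAffineOpen_mem_and_subset (x := x) (U := U) hx
      refine ⟨V, homOfLE hVU, ?_, hxV⟩
      haveI : IsAffine ((EtZar.zarToEt S).obj V).left := hV
      exact surjective_sect hD ((EtZar.zarToEt S).obj V) (h _ this 1 le_rfl) _
    exact Sheaf.epi_of_isLocallySurjective (J := Opens.grothendieckTopology S) _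
  exact { exact := hD.exact.map_of_mono_of_preservesKernel _ hD.mono_f inferInstance }

lemma lift_top [IsAffine S] {D : ShortComplex (EtCoh.Ab S)} (hD : D.ShortExact) (h : AffAcyclic D.X₁)
    [(EtZar.resZar S).Additive]
    (φ : (constantSheaf (Opens.grothendieckTopology S) AddCommGrpCat.{u + 1}).obj
      (AddCommGrpCat.of (ULift ℤ)) ⟶ (D.map (EtZar.resZar S)).X₃) :
    ∃ ψ, ψ ≫ (D.map (EtZar.resZar S)).g = φ := by
  let adj := constantSheafAdj (Opens.grothendieckTopology S) AddCommGrpCat.{u + 1}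
    (T := (⊤ : S.Opens)) isTerminalTop
  haveI : IsAffine ((EtZar.zarToEt S).obj ⊤).left := isAffineOpen_top S
  obtain ⟨t, ht⟩ := surjective_sect hD ((EtZar.zarToEt S).obj ⊤) (h _ this 1 le_rfl)
    ((adj.homEquiv _ _ φ) ⟨1⟩)
  refine ⟨(adj.homEquiv _ _).symm
    (AddCommGrpCat.ofHom ((zmultiplesHom _ t).comp (AddEquiv.ulift : ULift.{u + 1} ℤ ≃+ ℤ).toAddMonoidHom)), ?_⟩
  apply (adj.homEquiv _ _).injective
  rw [adj.homEquiv_naturality_right, Equiv.apply_symm_apply]
  ext ⟨n⟩
  have hh : ⟨n⟩ = n • (⟨1⟩ : ULift.{u + 1} ℤ) := ULift.ext _ _ (by simp)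
  rw [hh, map_zsmul, map_zsmul]
  refine congrArg (n • ·) ?_
  refine Eq.trans ?_ ht
  exact congrArg _ (one_zsmul t)

theorem subsingleton_H_resZar_succ [IsAffine S] (n : ℕ) :
    ∀ G : EtCoh.Ab S, AffAcyclic G → Subsingleton (EtZar.H ((EtZar.resZar S).obj G) (n + 1)) := by
  have : (EtZar.resZar S).Additive := by
    let adj := (EtZar.zarToEt S).sheafAdjunctionContinuous AddCommGrpCat.{u + 1}
      (Opens.grothendieckTopology S) S.smallEtaleTopology
    have : PreservesFiniteLimits (EtZar.resZar S) :=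
      adj.rightAdjoint_preservesLimits.{0, 0}.preservesFiniteLimits
    exact Functor.additive_of_preserves_binary_products _
  induction n with
  | zero =>
    intro G hG
    let D := ShortComplex.mk (Injective.ι G) (cokernel.π _) (cokernel.condition _)
    have hD : D.ShortExact := { exact := ShortComplex.exact_of_g_is_cokernel _ (cokernelIsCokernel _) }
    have : Injective D.X₂ := inferInstanceAs (Injective (Injective.under G))
    have : Injective (D.map (EtZar.resZar S)).X₂ := injective_resZar D.X₂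
    exact subsingleton_ext_one (shortExact_resZar hD hG) (Ext.subsingleton_of_injective _ _ 0)
      (lift_top hD hG)
  | succ n ih =>
    intro G hG
    let D := ShortComplex.mk (Injective.ι G) (cokernel.π _) (cokernel.condition _)
    have hD : D.ShortExact := { exact := ShortComplex.exact_of_g_is_cokernel _ (cokernelIsCokernel _) }
    have : Injective D.X₂ := inferInstanceAs (Injective (Injective.under G))
    have : Injective (D.map (EtZar.resZar S)).X₂ := injective_resZar D.X₂
    exact subsingleton_ext_one_succ (shortExact_resZar hD hG) (Ext.subsingleton_of_injective _ _ (n + 1))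
      (ih _ (affAcyclic_coker hD hG))

end etale

end Groth.Misc3Zar
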