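import Groth.Agent.EtaleBase.StrictVanish
import Groth.Agent.EtaleBase.NormalStalk
import Groth.Agent.EtaleBase.NormalConst
import Groth.Agent.EtaleBase.Rigidity
import Groth.Agent.EtaleBase.InjCoh
import Groth.Agent.Misc3Zar.AffineVanish
import Groth.Agent.CohFin.Acyclic
import Groth.Agent.CohBase.DerivedShift

/-!
Sheaves on the spectrum of a separably closed field: direct images have no higher direct images.
-/

set_option autoImplicit false
set_option backward.isDefEq.respectTransparency.types false

universe u

open CategoryTheory CategoryTheory.Limits AlgebraicGeometry Opposite TopologicalSpace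

namespace Groth.Misc3Zar.GenPt

attribute [local instance] Groth.EtaleBase.InjCoh.jCont

variable {K : Type u} [Field K] [IsSepClosed K]

/-- On the spectrum of a separably closed field short exact sequences are exact on sections. -/
theorem surjective_sect_field {D : ShortComplex (EtCoh.Ab (Spec (CommRingCat.of K)))}
    (hD : D.ShortExact) (W : (Spec (CommRingCat.of K)).Etale) :
    Function.Surjective (D.g.hom.app (op W)) := by
  have : IsSepClosed (IsLocalRing.ResidueField K) :=
    Groth.EtaleBase.NormalEt.isSepClosed_of_ringEquiv
      (RingEquiv.ofBijective (IsLocalRing.residue K)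
        ⟨(IsLocalRing.residue K).injective, IsLocalRing.residue_surjective⟩)
  have : AlgebraicGeometry.Etale W.hom := W.prop
  let g : W.left ⟶ Spec (CommRingCat.of K) := W.hom
  have : AlgebraicGeometry.Etale g := ‹AlgebraicGeometry.Etale W.hom›
  have : DiscreteTopology W.left := by
    have h := g.isDiscrete_preimage_singleton (IsLocalRing.closedPoint K)
    exact isDiscrete_univ_iff.1 (h.mono fun w _ => Subsingleton.elim (α := PrimeSpectrum K) _ _)
  let P : W.left → W.left.Opens := fun a => ⟨{a}, isOpen_discrete _⟩
  have hd : ∀ a b, a ≠ b → Disjoint (P a) (P b) := fun a b h => by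
    exact disjoint_iff.2 (Opens.ext (by
      simp only [P, Opens.coe_inf, Opens.coe_bot, Opens.coe_mk]
      exact Set.singleton_inter_eq_empty.2 (by simpa using h)))
  have hsup : ⨆ a, P a = ⊤ := Opens.ext (Set.eq_univ_of_forall fun a => by
    rw [SetLike.mem_coe, Opens.mem_iSup]; exact ⟨a, rfl⟩)
  have haff : ∀ a, IsAffine (Groth.EtaleBase.openObj W (P a)).left := fun a => by
    obtain ⟨V, hV, haV, hVP⟩ := exists_isAffineOpen_mem_and_subset (x := a) (U := P a) rfl
    have : V = P a := le_antisymm hVP fun b hb => by
      rw [show b = a from hb]; exact haV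
    exact this ▸ hV
  intro s
  have hloc : ∀ a, ∃ t, D.g.hom.app (op (Groth.EtaleBase.openObj W (P a))) t =
      D.X₃.obj.map (Groth.EtaleBase.openHom W (P a)).op s := fun a => by
    let U := Groth.EtaleBase.openObj W (P a)
    have : AlgebraicGeometry.Etale U.hom := U.prop
    haveI := haff a
    let gU : U.left ⟶ Spec (CommRingCat.of K) := U.hom
    haveI : AlgebraicGeometry.Etale gU := ‹AlgebraicGeometry.Etale U.hom›
    haveI : IsAffineHom gU := isAffineHom_of_isAffine _
    haveI : IsFinite gU := IsFinite.of_locallyQuasiFinite gU
    exact surjective_sect hD U (Groth.EtaleBase.H_subsingleton gU _ 1 le_rfl) _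
  choose t ht using hloc
  obtain ⟨σ, hσ⟩ := Groth.EtaleBase.exists_glue_disjoint W P hd hsup D.X₂ t
  refine ⟨σ, Groth.EtaleBase.ext_disjoint W P hd hsup D.X₃ _ _ fun a => ?_⟩
  rw [← NatTrans.naturality_apply D.g.hom, hσ, ht]

variable {X Y : Scheme.{u}}

/-- Direct image from the spectrum of a separably closed field is exact. -/
theorem shortExact_push (j : Spec (CommRingCat.of K) ⟶ X)
    {D : ShortComplex (EtCoh.Ab (Spec (CommRingCat.of K)))} (hD : D.ShortExact)
    [(EtCoh.push j).Additive] : (D.map (EtCoh.push j)).ShortExact := by
  have : PreservesFiniteLimits (EtCoh.push j) :=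
    (EtCoh.pullPushAdj j).rightAdjoint_preservesLimits.{0, 0}.preservesFiniteLimits
  have := hD.mono_f
  have hm : Mono (D.map (EtCoh.push j)).f := inferInstanceAs (Mono ((EtCoh.push j).map D.f))
  have he : Epi (D.map (EtCoh.push j)).g := by
    haveI : Sheaf.IsLocallySurjective (D.map (EtCoh.push j)).g := by
      refine ⟨fun {U} s => ?_⟩
      obtain ⟨t, ht⟩ := surjective_sect_field hD ((EtCoh.bc j).obj U) s
      refine GrothendieckTopology.superset_covering _ ?_ (GrothendieckTopology.top_mem _ U)
      intro V g _
      exact ⟨(D.map (EtCoh.push j)).X₂.obj.map g.op t,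
        (NatTrans.naturality_apply (D.map (EtCoh.push j)).g.hom g.op t).trans (congrArg _ ht)⟩
    exact Sheaf.epi_of_isLocallySurjective (J := X.smallEtaleTopology) _
  exact { exact := hD.exact.map_of_mono_of_preservesKernel _ hD.mono_f inferInstance }

/-- Direct images of sheaves from a separably closed point are acyclic for direct images. -/
theorem isZero_Rpush_push (f : X ⟶ Y) (j : Spec (CommRingCat.of K) ⟶ X)
    [(EtCoh.push j).Additive] [(EtCoh.push f).Additive] :
    ∀ (q : ℕ) (G : EtCoh.Ab (Spec (CommRingCat.of K))),
      IsZero (((EtCoh.push f).rightDerived (q + 1)).obj ((EtCoh.push j).obj G)) := by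
  intro q
  induction q with
  | zero =>
    intro G
    let D := Groth.CohFin.injSeq G
    have hD : D.ShortExact := Groth.CohFin.injSeq_shortExact G
    have hD' := shortExact_push j hD
    haveI : Injective D.X₂ := inferInstanceAs (Injective (Injective.under G))
    haveI : Injective (D.map (EtCoh.push j)).X₂ := inferInstanceAs (Injective ((EtCoh.push j).obj D.X₂))
    obtain ⟨e⟩ := Groth.CohFin.nonempty_rightDerived_one_iso_of_injective (F := EtCoh.push f) hD'
    haveI : Epi ((EtCoh.push f).map (D.map (EtCoh.push j)).g) := by
      haveI : Sheaf.IsLocallySurjective ((EtCoh.push f).map (D.map (EtCoh.push j)).g) := by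
        refine ⟨fun {U} s => ?_⟩
        obtain ⟨t, ht⟩ := surjective_sect_field hD ((EtCoh.bc j).obj ((EtCoh.bc f).obj U)) s
        refine GrothendieckTopology.superset_covering _ ?_ (GrothendieckTopology.top_mem _ U)
        intro V g _
        exact ⟨((EtCoh.push f).obj (D.map (EtCoh.push j)).X₂).obj.map g.op t,
          (NatTrans.naturality_apply ((EtCoh.push f).map (D.map (EtCoh.push j)).g).hom g.op t).trans
            (congrArg _ ht)⟩
      exact Sheaf.epi_of_isLocallySurjective (J := Y.smallEtaleTopology) _
    exact (isZero_cokernel_of_epi _).of_iso e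
  | succ q ih =>
    intro G
    let D := Groth.CohFin.injSeq G
    have hD : D.ShortExact := Groth.CohFin.injSeq_shortExact G
    have hD' := shortExact_push j hD
    haveI : Injective D.X₂ := inferInstanceAs (Injective (Injective.under G))
    haveI : Injective (D.map (EtCoh.push j)).X₂ := inferInstanceAs (Injective ((EtCoh.push j).obj D.X₂))
    exact (ih D.X₃).of_iso (Groth.CohBase.rightDerivedShift hD' (EtCoh.push f) q)

/-- Higher direct images of constant sheaves on normal schemes with separably closed function field. -/
theorem isZero_Rpush_const [IsIntegral X] (f : X ⟶ Y)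
    (hN : ∀ x : X, IsIntegrallyClosed (X.presheaf.stalk x)) [IsSepClosed X.functionField]
    (M : Type) [AddCommGroup M] [(EtCoh.push f).Additive] (q : ℕ) :
    IsZero (((EtCoh.push f).rightDerived (q + 1)).obj (EtCoh.const X M)) := by
  let j : Spec (CommRingCat.of X.functionField) ⟶ X := X.fromSpecStalk (genericPoint X)
  haveI : IsPreimmersion j := inferInstanceAs (IsPreimmersion (X.fromSpecStalk (genericPoint X)))
  have hj : genericPoint X ∈ Set.range j.base := by
    show genericPoint X ∈ Set.range (X.fromSpecStalk (genericPoint X)).base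
    rw [Scheme.range_fromSpecStalk]
    exact specializes_refl _
  have hs := Groth.EtaleBase.LocConst.exists_stalkBij_const (EtCoh.top X) (ULift.{u + 1} M)
  haveI := Groth.EtaleBase.NormalConst.isIso_unit j (EtCoh.const X M) _ hN hs hj
  haveI : (EtCoh.push j).Additive := (EtCoh.pullPushAdj j).right_adjoint_additive
  exact (isZero_Rpush_push f j q ((EtCoh.pull j).obj (EtCoh.const X M))).of_iso
    (((EtCoh.push f).rightDerived (q + 1)).mapIso
      (asIso ((EtCoh.pullPushAdj j).unit.app (EtCoh.const X M))))

end Groth.Misc3Zar.GenPt
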