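import Groth.Agent.EtaleBase.DisjointGlue
import Groth.Prelude.Def_EtGm
import Groth.Prelude.Def_EtCore
import Groth.Prelude.Def_W4c5etcohweilstudentAS
import Mathlib.RingTheory.Coprime.Lemmas
import Mathlib.Data.Nat.Prime.Int
import Mathlib.RingTheory.Polynomial.Basic
import Mathlib.CategoryTheory.Sites.LocallyBijective

/-!
The kernel of the Artin–Schreier map on `G_a` in characteristic `p` is the constant sheaf `ℤ/p`.
-/

set_option autoImplicit false

universe u

open CategoryTheory CategoryTheory.Limits AlgebraicGeometry Opposite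

namespace Groth.Misc3Zar.AS

open Groth.EtaleBase

section algebra

variable {R : Type*} [CommRing R] {p : ℕ} (hp : p.Prime) (h0 : (p : R) = 0)

include hp h0

lemma natCast_pow_self (i : ℕ) : (i : R) ^ p = i := by
  induction i with
  | zero => simp [hp.ne_zero]
  | succ i ih =>
    rw [Nat.cast_succ, W4c5etcohweilstudent.add_pow_prime_of_natCast_eq_zero p hp h0, ih, one_pow]

lemma isUnit_natCast_sub {a b : ℕ} (ha : a < p) (hb : b < p) (hab : a ≠ b) :
    IsUnit ((a : R) - b) := by
  have hco : IsCoprime ((a : ℤ) - b) (p : ℤ) := by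
    refine ((Nat.prime_iff_prime_int.1 hp).coprime_iff_not_dvd.2 fun h => hab ?_).symm
    have := Int.eq_zero_of_abs_lt_dvd h (by rw [abs_lt]; omega)
    omega
  obtain ⟨s, t, hst⟩ := hco
  refine IsUnit.of_mul_eq_one (s : R) ?_
  have h1 := congrArg (fun z : ℤ => (z : R)) hst
  simp only [Int.cast_add, Int.cast_mul, Int.cast_sub, Int.cast_natCast, Int.cast_one, h0,
    mul_zero, add_zero] at h1
  rw [mul_comm]; exact h1

lemma prod_sub_natCast (x : R) : ∏ i ∈ Finset.range p, (x - (i : R)) = x ^ p - x := by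
  rcases subsingleton_or_nontrivial R with h | h
  · exact Subsingleton.elim _ _
  let P : Polynomial R := ∏ i ∈ Finset.range p, (Polynomial.X - Polynomial.C (i : R))
  have hP : P.Monic := Polynomial.monic_prod_of_monic _ _ fun i _ => Polynomial.monic_X_sub_C _
  have hdvd : P ∣ Polynomial.X ^ p - Polynomial.X := by
    refine Finset.prod_dvd_of_coprime (fun a ha b hb hab => ?_) fun i _ => ?_
    · simp only [Finset.coe_range, Set.mem_Iio] at ha hb
      exact Polynomial.isCoprime_X_sub_C_of_isUnit_sub (isUnit_natCast_sub hp h0 ha hb hab)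
    · rw [Polynomial.dvd_iff_isRoot, Polynomial.IsRoot, Polynomial.eval_sub, Polynomial.eval_pow,
        Polynomial.eval_X, natCast_pow_self hp h0, sub_self]
  have hd : (Polynomial.X : Polynomial R).degree < (p : WithBot ℕ) := by
    rw [Polynomial.degree_X]; exact_mod_cast hp.one_lt
  have hmon : (Polynomial.X ^ p - Polynomial.X : Polynomial R).Monic :=
    Polynomial.monic_X_pow_sub hd
  have hdeg : (Polynomial.X ^ p - Polynomial.X : Polynomial R).natDegree ≤ P.natDegree := by
    rw [Polynomial.natDegree_sub_eq_left_of_natDegree_lt (by simpa using hp.one_lt),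
      Polynomial.natDegree_X_pow, Polynomial.natDegree_prod_of_monic _ _
      fun i _ => Polynomial.monic_X_sub_C _,
      Finset.sum_congr rfl fun i _ => Polynomial.natDegree_X_sub_C _]
    simp
  have := Polynomial.eq_of_monic_of_dvd_of_natDegree_le hP hmon hdvd hdeg
  have := congrArg (Polynomial.eval x) this
  simpa [P, Polynomial.eval_prod] using this.symm

end algebra

variable {X : Scheme.{u}}

/-- Sections of a kernel of étale sheaves. -/
lemma kernelι_sections {A B : EtCoh.Ab X} (f : A ⟶ B) (U : X.Etale) :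
    Function.Injective ((kernel.ι f).hom.app (op U)) ∧
      ∀ a : A.obj.obj (op U), f.hom.app (op U) a = 0 →
        ∃ b, (kernel.ι f).hom.app (op U) b = a := by
  let E : EtCoh.Ab X ⥤ AddCommGrpCat.{u + 1} :=
    sheafToPresheaf X.smallEtaleTopology _ ⋙ (evaluation X.Etaleᵒᵖ _).obj (op U)
  have : Mono (E.map (kernel.ι f)) := inferInstance
  refine ⟨(AddCommGrpCat.mono_iff_injective _).1 this, fun a ha => ?_⟩
  let S := ShortComplex.mk (kernel.ι f) f (kernel.condition _)
  have hS : S.Exact := ShortComplex.exact_of_f_is_kernel S (kernelIsKernel _)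
  have hE := hS.map_of_mono_of_preservesKernel E (inferInstanceAs (Mono (kernel.ι f))) inferInstance
  exact (ShortComplex.ab_exact_iff _).1 hE a ha

/-- The function underlying a section of `G_a`. -/
noncomputable def gaVal {U : X.Etale} (a : (EtCoh.Ga X).obj.obj (op U)) : Γ(U.left, ⊤) :=
  a.down

/-- The section of `G_a` attached to a function. -/
noncomputable def gaEl (U : X.Etale) (r : Γ(U.left, ⊤)) : (EtCoh.Ga X).obj.obj (op U) :=
  ULift.up r

lemma gaVal_injective {U : X.Etale} : Function.Injective (gaVal (U := U)) :=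
  fun a b h => ULift.ext a b h

lemma gaVal_gaEl (U : X.Etale) (r : Γ(U.left, ⊤)) : gaVal (gaEl U r) = r := rfl

lemma gaVal_map {U V : X.Etale} (g : V ⟶ U) (a : (EtCoh.Ga X).obj.obj (op U)) :
    gaVal ((EtCoh.Ga X).obj.map g.op a) = g.left.appTop (gaVal a) := rfl

lemma gaVal_nsmul {U : X.Etale} (m : ℕ) (a : (EtCoh.Ga X).obj.obj (op U)) :
    gaVal (m • a) = m • gaVal a := rfl

lemma gaVal_as (p : ℕ) (hp : p.Prime) (h0 : (p : Γ(X, ⊤)) = 0) {U : X.Etale}
    (a : (EtCoh.Ga X).obj.obj (op U)) :
    gaVal ((W4c5etcohweilstudent.artinSchreierEndo X p hp h0).hom.app (op U) a) =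
      gaVal a ^ p - gaVal a := rfl

set_option backward.isDefEq.respectTransparency.types false in
/-- The kernel of `F - 1` on `G_a` is the constant sheaf `ℤ/p`. -/
theorem nonempty_kernel_iso_const (p : ℕ) (hp : p.Prime) (h0 : (p : Γ(X, ⊤)) = 0) :
    Nonempty (kernel (W4c5etcohweilstudent.artinSchreierEndo X p hp h0) ≅
      EtCoh.const X (ZMod p)) := by
  let f := W4c5etcohweilstudent.artinSchreierEndo X p hp h0
  have : NeZero p := ⟨hp.ne_zero⟩
  have hp0 : ∀ U : X.Etale, (p : Γ(U.left, ⊤)) = 0 :=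
    W4c5etcohweilstudent.natCast_eq_zero_etale p h0
  have hel : ∀ U : X.Etale, ∃ b, (kernel.ι f).hom.app (op U) b = gaEl U 1 := fun U =>
    (kernelι_sections f U).2 _ (gaVal_injective (by
      refine (gaVal_as p hp h0 _).trans ?_
      rw [gaVal_gaEl, one_pow, sub_self]; rfl))
  choose el hel using hel
  have hel_map : ∀ {U V : X.Etale} (g : V ⟶ U), (kernel f).obj.map g.op (el U) = el V := by
    intro U V g
    refine (kernelι_sections f V).1 ?_
    rw [hel V, NatTrans.naturality_apply, hel U]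
    exact gaVal_injective ((gaVal_map g _).trans (map_one _))
  have hnel : ∀ U : X.Etale, p • el U = 0 := fun U => (kernelι_sections f U).1 (by
    rw [map_nsmul, map_zero, hel U]
    exact gaVal_injective ((gaVal_nsmul p _).trans (by
      rw [gaVal_gaEl, nsmul_one, hp0 U]; rfl)))
  let φ : ∀ U : X.Etale, ZMod p →+ (kernel f).obj.obj (op U) := fun U =>
    ZMod.lift p ⟨zmultiplesHom _ (el U), by
      show ((p : ℤ) • el U) = 0
      rw [natCast_zsmul]; exact hnel U⟩
  have hφ : ∀ (U : X.Etale) (k : ℕ), φ U (k : ZMod p) = k • el U := fun U k => by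
    rw [← Int.cast_natCast]
    show ZMod.lift p _ ((k : ℤ) : ZMod p) = _
    rw [ZMod.lift_coe]
    exact natCast_zsmul _ _
  let ψ : (Functor.const X.Etaleᵒᵖ).obj (AddCommGrpCat.of (ULift.{u + 1} (ZMod p))) ⟶
      (kernel f).obj :=
    { app := fun U => AddCommGrpCat.ofHom ((φ U.unop).comp AddEquiv.ulift.toAddMonoidHom)
      naturality := fun U V g => by
        ext ⟨k⟩
        obtain ⟨k, rfl⟩ := ZMod.natCast_zmod_surjective k
        show φ V.unop (k : ZMod p) = (kernel f).obj.map g (φ U.unop (k : ZMod p))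
        rw [hφ, hφ, map_nsmul]
        exact congrArg (k • ·) (hel_map g.unop).symm }
  have hval : ∀ (U : X.Etale) (k : ℕ),
      gaVal ((kernel.ι f).hom.app (op U) (ψ.app (op U) ⟨(k : ZMod p)⟩)) = (k : Γ(U.left, ⊤)) := by
    intro U k
    show gaVal ((kernel.ι f).hom.app (op U) (φ U (k : ZMod p))) = _
    rw [hφ, map_nsmul, hel U, gaVal_nsmul, gaVal_gaEl, nsmul_one]
  have h_inj : Presheaf.IsLocallyInjective X.smallEtaleTopology ψ := by
    refine ⟨fun {U} a b h => ?_⟩
    rw [mem_topology_iff]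
    intro x
    refine (?_ : a = b) ▸ ⟨U.unop, 𝟙 _, x, rfl, rfl⟩
    obtain ⟨a⟩ := a
    obtain ⟨b⟩ := b
    obtain ⟨a, ha, rfl⟩ : ∃ m : ℕ, m < p ∧ (m : ZMod p) = a :=
      ⟨a.val, ZMod.val_lt _, ZMod.natCast_zmod_val _⟩
    obtain ⟨b, hb, rfl⟩ : ∃ m : ℕ, m < p ∧ (m : ZMod p) = b :=
      ⟨b.val, ZMod.val_lt _, ZMod.natCast_zmod_val _⟩
    congr 2
    by_contra hab
    have he := congrArg (fun z => gaVal ((kernel.ι f).hom.app U z)) h
    have hs := isUnit_natCast_sub hp (hp0 U.unop) ha hb hab
    rw [(hval U.unop a).symm.trans (he.trans (hval U.unop b)), sub_self] at hs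
    exact (U.unop.left.basicOpen_zero ⊤).le
      (Scheme.basicOpen_of_isUnit _ hs ▸ TopologicalSpace.Opens.mem_top x)
  have h_surj : Presheaf.IsLocallySurjective X.smallEtaleTopology ψ := by
    refine ⟨fun {U} s => ?_⟩
    rw [mem_topology_iff]
    intro x
    let v : Γ(U.left, ⊤) := gaVal ((kernel.ι f).hom.app (op U) s)
    have hv : v ^ p - v = 0 := by
      rw [← gaVal_as p hp h0, show f.hom.app (op U) ((kernel.ι f).hom.app (op U) s) = 0 from
          congrArg (fun m : kernel f ⟶ EtCoh.Ga X => m.hom.app (op U) s) (kernel.condition _)]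
      rfl
    let ev := U.left.Γevaluation x
    have hprod : ∏ i ∈ Finset.range p, (ev v - ev (i : Γ(U.left, ⊤))) = 0 := by
      have : ev (∏ i ∈ Finset.range p, (v - (i : Γ(U.left, ⊤)))) =
          ∏ i ∈ Finset.range p, (ev v - ev (i : Γ(U.left, ⊤))) := by
        simp [map_prod]
      rw [← this, prod_sub_natCast hp (hp0 U), hv, map_zero]
    obtain ⟨i, hi, hi0⟩ := Finset.prod_eq_zero_iff.1 hprod
    rw [Finset.mem_range] at hi
    let Q : Γ(U.left, ⊤) := ∏ j ∈ (Finset.range p).erase i, (v - (j : Γ(U.left, ⊤)))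
    have hxQ : x ∈ U.left.basicOpen Q := by
      rw [← Scheme.evaluation_ne_zero_iff_mem_basicOpen _ x (TopologicalSpace.Opens.mem_top x)]
      show ev Q ≠ 0
      rw [map_prod, Finset.prod_ne_zero_iff]
      intro j hj
      rw [Finset.mem_erase, Finset.mem_range] at hj
      have h1 : ev ((i : Γ(U.left, ⊤)) - j) ≠ 0 :=
        ((isUnit_natCast_sub hp (hp0 U) hi hj.2 (Ne.symm hj.1)).map ev.hom).ne_zero
      rw [sub_eq_zero] at hi0
      simp only [map_sub] at h1 hi0 ⊢
      rwa [hi0]
    let W := U.left.basicOpen Q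
    refine ⟨openObj U W, openHom U W, ⟨x, hxQ⟩, ⟨⟨(i : ZMod p)⟩, ?_⟩, rfl⟩
    refine (kernelι_sections f _).1 (gaVal_injective ?_)
    rw [NatTrans.naturality_apply, gaVal_map]
    refine (hval (openObj U W) i).trans ?_
    show (i : Γ((openObj U W).left, ⊤)) = (openHom U W).left.appTop v
    rw [← map_natCast (openHom U W).left.appTop.hom i]
    have hQu : IsUnit ((openHom U W).left.appTop Q) := by
      refine RingedSpace.isUnit_of_isUnit_germ _ _ _ fun w _ => ?_
      rw [← Scheme.mem_basicOpen]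
      rw [← Scheme.preimage_basicOpen_top]
      exact w.2
    have h0' : (openHom U W).left.appTop (v - (i : Γ(U.left, ⊤))) *
        (openHom U W).left.appTop Q = 0 := by
      rw [← map_mul, Finset.mul_prod_erase _ (fun j => v - ((j : ℕ) : Γ(U.left, ⊤)))
        (Finset.mem_range.2 hi), prod_sub_natCast hp (hp0 U), hv, map_zero]
    rw [hQu.mul_left_eq_zero, map_sub, sub_eq_zero] at h0'
    exact h0'.symm
  have hW : X.smallEtaleTopology.W ψ := X.smallEtaleTopology.W_of_isLocallyBijective ψ
  have : IsIso ((presheafToSheaf X.smallEtaleTopology AddCommGrpCat.{u + 1}).map ψ) :=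
    (GrothendieckTopology.W_iff _ ψ).1 hW
  exact ⟨sheafificationIso (kernel f) ≪≫
    (asIso ((presheafToSheaf X.smallEtaleTopology AddCommGrpCat.{u + 1}).map ψ)).symm⟩

end Groth.Misc3Zar.AS
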