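import Mathlib.Algebra.Homology.DerivedCategory.Ext.ExactSequences
import Mathlib.Algebra.Homology.DerivedCategory.Ext.EnoughInjectives
import Mathlib.CategoryTheory.Preadditive.Injective.Basic

/-!
Comparison of `Ext` groups along an acyclic functor, natural in the second argument, by dimension
shifting.
-/

set_option autoImplicit false

universe w w' v v' u u'

open CategoryTheory CategoryTheory.Limits CategoryTheory.Abelian

namespace Groth.Misc3Zar.EndoCmp

/-- An isomorphism induced on compatible quotients. -/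
lemma exists_quot_equiv {A A' B B' : Type*} [AddCommGroup A] [AddCommGroup A'] [AddCommGroup B]
    [AddCommGroup B'] (d : A →+ B) (d' : A' →+ B') (e : A ≃+ A') (hd : Function.Surjective d)
    (hd' : Function.Surjective d') (hker : ∀ x, d x = 0 ↔ d' (e x) = 0) :
    ∃ ε : B ≃+ B', ∀ x, ε (d x) = d' (e x) := by
  choose s hs using hd
  have key : ∀ x, d' (e (s (d x))) = d' (e x) := fun x => by
    rw [← sub_eq_zero, ← map_sub, ← map_sub, ← hker, map_sub, hs, sub_self]
  let F : B →+ B' := AddMonoidHom.mk' (fun b => d' (e (s b))) fun a b => by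
    rw [← map_add, ← map_add]
    have h : d (s a + s b) = a + b := by rw [map_add, hs, hs]
    rw [← key (s a + s b), h]
  refine ⟨AddEquiv.ofBijective F ⟨(injective_iff_map_eq_zero F).2 fun b hb => ?_, fun b' => ?_⟩,
    fun x => key x⟩
  · rw [← hs b]; exact (hker _).2 hb
  · obtain ⟨a, rfl⟩ := hd' b'
    exact ⟨d (e.symm a), (key _).trans (by rw [e.apply_symm_apply])⟩

variable {C : Type u} [Category.{v} C] [Abelian C] [HasExt.{w} C]

/-- The connecting map. -/
noncomputable abbrev conn (Z : C) {S : ShortComplex C} (hS : S.ShortExact) (n : ℕ) :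
    Ext Z S.X₃ n →+ Ext Z S.X₁ (n + 1) :=
  hS.extClass.postcomp Z rfl

lemma conn_naturality (Z : C) {S S' : ShortComplex C} (hS : S.ShortExact) (hS' : S'.ShortExact)
    (φ : S ⟶ S') (n : ℕ) (x : Ext Z S.X₃ n) :
    conn Z hS' n (x.comp (Ext.mk₀ φ.τ₃) (add_zero n)) =
      (conn Z hS n x).comp (Ext.mk₀ φ.τ₁) (add_zero (n + 1)) := by
  show (x.comp (Ext.mk₀ φ.τ₃) (add_zero n)).comp hS'.extClass rfl =
    (x.comp hS.extClass rfl).comp (Ext.mk₀ φ.τ₁) (add_zero (n + 1))
  rw [Ext.comp_assoc_of_second_deg_zero, Ext.comp_assoc_of_third_deg_zero,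
    ← ShortComplex.ShortExact.extClass_naturality hS hS' φ]

lemma conn_surjective (Z : C) {S : ShortComplex C} (hS : S.ShortExact) [Injective S.X₂] (n : ℕ) :
    Function.Surjective (conn Z hS n) := fun x => by
  obtain ⟨y, hy⟩ := Ext.covariant_sequence_exact₁ Z hS x
    (Ext.eq_zero_of_injective _) rfl
  exact ⟨y, hy⟩

lemma conn_eq_zero_iff (Z : C) {S : ShortComplex C} (hS : S.ShortExact) (n : ℕ) (x : Ext Z S.X₃ n) :
    conn Z hS n x = 0 ↔ ∃ y : Ext Z S.X₂ n, y.comp (Ext.mk₀ S.g) (add_zero n) = x := by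
  refine ⟨fun h => Ext.covariant_sequence_exact₃ Z hS x rfl h, ?_⟩
  rintro ⟨y, rfl⟩
  show (y.comp (Ext.mk₀ S.g) (add_zero n)).comp hS.extClass rfl = 0
  rw [Ext.comp_assoc_of_second_deg_zero, hS.comp_extClass, Ext.comp_zero]

variable {D : Type u'} [Category.{v'} D] [Abelian D] [HasExt.{w'} D]

variable [EnoughInjectives C] (Z : C) (Z' : D) (R : C ⥤ D) [R.Additive]

/-- The chosen injective embedding. -/
noncomputable abbrev emb (G : C) : ShortComplex C :=
  ShortComplex.mk (Injective.ι G) (cokernel.π _) (cokernel.condition _)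

lemma emb_shortExact (G : C) : (emb G).ShortExact :=
  { exact := ShortComplex.exact_of_g_is_cokernel _ (cokernelIsCokernel _) }

/-- A map extends to the chosen embeddings. -/
lemma exists_emb_map {G G' : C} (f : G ⟶ G') : ∃ φ : emb G ⟶ emb G', φ.τ₁ = f := by
  let g : Injective.under G ⟶ Injective.under G' :=
    Injective.factorThru (f ≫ Injective.ι G') (Injective.ι G)
  have hg : Injective.ι G ≫ g = f ≫ Injective.ι G' := Injective.comp_factorThru _ _
  let h : cokernel (Injective.ι G) ⟶ cokernel (Injective.ι G') := cokernel.map _ _ f g hg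
  exact ⟨ShortComplex.homMk f g h hg.symm (cokernel.π_desc _ _ _).symm, rfl⟩

variable (P : C → Prop)

/-- Comparison of `Ext(Z, G)` with `Ext(Z', R G)`, natural in the acyclic object `G`. -/
theorem exists_natural_equiv (τ : ∀ G : C, (Z ⟶ G) ≃+ (Z' ⟶ R.obj G))
    (hτ : ∀ {G G' : C} (f : G ⟶ G') (x : Z ⟶ G), τ G' (x ≫ f) = τ G x ≫ R.map f)
    (hinj : ∀ I : C, Injective I → P I ∧ Injective (R.obj I))
    (hP : ∀ S : ShortComplex C, S.ShortExact → Injective S.X₂ → P S.X₁ →
      (S.map R).ShortExact ∧ P S.X₃) (n : ℕ) :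
    ∃ e : ∀ G : C, P G → (Ext Z G n ≃+ Ext Z' (R.obj G) n),
      ∀ (G G' : C) (hG : P G) (hG' : P G') (f : G ⟶ G') (x : Ext Z G n),
        e G' hG' (x.comp (Ext.mk₀ f) (add_zero n)) =
          (e G hG x).comp (Ext.mk₀ (R.map f)) (add_zero n) := by
  induction n with
  | zero =>
    refine ⟨fun G _ => Ext.addEquiv₀.trans ((τ G).trans Ext.addEquiv₀.symm), fun G G' hG hG' f x => ?_⟩
    obtain ⟨a, rfl⟩ := (Ext.mk₀_bijective Z G).2 x
    rw [Ext.mk₀_comp_mk₀]
    show Ext.mk₀ (τ G' (Ext.addEquiv₀ (Ext.mk₀ (a ≫ f)))) =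
      (Ext.mk₀ (τ G (Ext.addEquiv₀ (Ext.mk₀ a)))).comp (Ext.mk₀ (R.map f)) (add_zero 0)
    have h : ∀ {A : C} (b : Z ⟶ A), Ext.addEquiv₀ (Ext.mk₀ b) = b := fun b =>
      Ext.addEquiv₀.apply_symm_apply b
    rw [h, h, Ext.mk₀_comp_mk₀, hτ]
  | succ n ih =>
    obtain ⟨e, he⟩ := ih
    have h3 : ∀ G, P G → ((emb G).map R).ShortExact ∧ P (emb G).X₃ := fun G hG =>
      hP _ (emb_shortExact G) inferInstance hG
    have hex : ∀ G (hG : P G), ∃ ε : Ext Z G (n + 1) ≃+ Ext Z' (R.obj G) (n + 1),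
        ∀ x : Ext Z (emb G).X₃ n, ε (conn Z (emb_shortExact G) n x) =
          conn Z' (h3 G hG).1 n (e _ (h3 G hG).2 x) := by
      intro G hG
      have hI := hinj (Injective.under G) inferInstance
      haveI : Injective ((emb G).map R).X₂ := hI.2
      refine exists_quot_equiv _ _ _ (conn_surjective Z _ n) (conn_surjective Z' _ n) fun x => ?_
      refine (conn_eq_zero_iff _ _ _ _).trans (Iff.trans ?_ (conn_eq_zero_iff Z' (h3 G hG).1 n _).symm)
      constructor
      · rintro ⟨y, rfl⟩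
        exact ⟨e _ hI.1 y, (he _ _ hI.1 _ _ y).symm⟩
      · rintro ⟨y, hy⟩
        obtain ⟨y, rfl⟩ := (e _ hI.1).surjective y
        exact ⟨y, (e _ (h3 G hG).2).injective ((he _ _ hI.1 _ _ y).trans hy)⟩
    choose ε hε using hex
    refine ⟨ε, fun G G' hG hG' f x => ?_⟩
    obtain ⟨φ, rfl⟩ := exists_emb_map f
    obtain ⟨x, rfl⟩ := conn_surjective Z (emb_shortExact G) n x
    rw [← conn_naturality Z (emb_shortExact G) (emb_shortExact G') φ, hε, he _ _ (h3 G hG).2,
      hε]
    exact conn_naturality Z' (h3 G hG).1 (h3 G' hG').1 (R.mapShortComplex.map φ) n _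

end Groth.Misc3Zar.EndoCmp
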