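import Groth.Agent.Misc3Zar.ArtinSchreierProper
import Groth.Agent.SiteCohomology.SpectralDimension

/-!
Vanishing of `H^q(X_et, ℤ/p)` above the dimension in characteristic `p`.
-/

set_option autoImplicit false
set_option backward.isDefEq.respectTransparency.types false

universe u

open CategoryTheory Limits AlgebraicGeometry Opposite

namespace Groth.Misc3Zar.ASVanish

variable {X : Scheme.{u}} (p : ℕ) (hp : p.Prime) (h0 : (p : Γ(X, ⊤)) = 0)

include hp h0

/-- `H^{n+1}(ℤ/p) = 0` if `F - 1` is surjective on `H^n(G_a)` and `H^{n+1}(G_a) = 0`. -/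
theorem subsingleton_H_const_succ (n : ℕ)
    (hs : Function.Surjective (Sheaf.H.map (W4c5etcohweilstudent.artinSchreierEndo X p hp h0) n))
    (h : Subsingleton (EtCoh.H X (EtCoh.Ga X) (n + 1))) :
    Subsingleton (EtCoh.H X (EtCoh.const X (ZMod p)) (n + 1)) := by
  let a := W4c5etcohweilstudent.artinSchreierEndo X p hp h0
  haveI : Epi a := Groth.Agent.S18415.result p hp h0
  obtain ⟨e⟩ := AS.nonempty_kernel_iso_const p hp h0
  let D := ShortComplex.mk (kernel.ι a) a (kernel.condition _)
  have hD : D.ShortExact := ⟨ShortComplex.exact_of_f_is_kernel D (kernelIsKernel _)⟩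
  have hk : Subsingleton ((EtCoh.HF X (n + 1)).obj (kernel a)) :=
    subsingleton_of_forall_eq 0 fun x => by
      obtain ⟨y, rfl⟩ := Abelian.Ext.covariant_sequence_exact₁ _ hD x (h.elim _ _) rfl
      obtain ⟨z, rfl⟩ := hs y
      show ((Abelian.Ext.comp z (Abelian.Ext.mk₀ D.g) (add_zero n)).comp hD.extClass rfl) = 0
      rw [Abelian.Ext.comp_assoc_of_second_deg_zero, hD.comp_extClass, Abelian.Ext.comp_zero]
  exact (((EtCoh.HF X (n + 1)).mapIso (e.symm : _ ≅ kernel a)).addCommGroupIsoToAddEquiv.toEquiv).subsingleton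

omit hp h0 in
/-- `H^q(G_a)` vanishes above the dimension. -/
theorem subsingleton_H_Ga [CompactSpace X] [QuasiSeparatedSpace X] {d : ℕ}
    (hd : topologicalKrullDim X ≤ d) (q : ℕ) (hq : d < q) :
    Subsingleton (EtCoh.H X (EtCoh.Ga X) q) := by
  obtain ⟨e, -⟩ := GaLin.exists_H_Ga_equiv X q
  haveI : SpectralSpace X := SpectralSpace.mk
  haveI : SpectralSpace ↑X.toTopCat := ‹SpectralSpace X›
  haveI : Subsingleton (Coh.HH X (Coh.structureModule X) q) :=
    Groth.SiteCohomology.SpectralDim.subsingleton_H (X := X.toTopCat) hd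
      (Coh.toAb (Coh.structureModule X)) hq
  exact e.toEquiv.subsingleton

theorem subsingleton_H_const_above [CompactSpace X] [QuasiSeparatedSpace X] {d : ℕ}
    (hd : topologicalKrullDim X ≤ d) (q : ℕ) (hq : d + 2 ≤ q) :
    Subsingleton (EtCoh.H X (EtCoh.const X (ZMod p)) q) := by
  obtain ⟨n, rfl⟩ : ∃ n, q = n + 1 := ⟨q - 1, by omega⟩
  have := subsingleton_H_Ga hd n (by omega)
  exact subsingleton_H_const_succ p hp h0 n (fun y => ⟨y, this.elim _ _⟩)
    (subsingleton_H_Ga hd (n + 1) (by omega))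

end Groth.Misc3Zar.ASVanish
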