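import Groth.Agent.Misc3Zar.GaLinear
import Groth.Agent.Misc3Zar.ArtinSchreier
import Groth.Agent.Misc3Zar.AffineVanish
import Groth.Agent.Calg3.FrobFixed
import Groth.Agent.QCohMod.Coherent
import Groth.Agent.S0002
import Groth.Agent.S18415

/-!
The Artin–Schreier map on `H^q(X_et, G_a)` for `X` proper over a separably closed field.
-/

set_option autoImplicit false
set_option backward.isDefEq.respectTransparency.types false

universe u v

open CategoryTheory Limits AlgebraicGeometry Opposite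
open scoped Pointwise

namespace Groth.Misc3Zar.ASProper

/-- A semilinear map has finitely many fixed points. -/
theorem finite_fixed {k : Type u} [Field k] [IsSepClosed k] (p : ℕ) [hp : Fact p.Prime] [CharP k p]
    {V : Type v} [AddCommGroup V] [Module k V] [FiniteDimensional k V] {φ : V →+ V}
    (hφ : Groth.SGA7.QLin.IsQLin (k := k) p φ) : Finite {v : V // φ v = v} := by
  let s : Set V := {v | φ v = v}
  let W : Submodule k V := Submodule.span k s
  have hW : ∀ v ∈ W, φ v ∈ W := fun v hv => by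
    have h := Groth.SGA7.QLin.map_span hφ s hv
    rwa [show φ '' s = s from by
      ext w; exact ⟨fun ⟨a, ha, e⟩ => e ▸ (ha.symm ▸ ha), fun hw => ⟨w, hw, hw⟩⟩] at h
  let ψ : W →+ W := AddMonoidHom.mk' (fun w => ⟨φ w, hW w w.2⟩)
    fun a b => Subtype.ext (map_add φ (a : V) b)
  have hψ : Groth.SGA7.QLin.IsQLin (k := k) p ψ := fun c w => Subtype.ext (hφ c (w : V))
  have hss : Submodule.span k (Set.range ψ) = ⊤ := by
    rw [eq_top_iff]
    refine (le_of_eq (Submodule.span_span_coe_preimage (R := k) (s := s)).symm).trans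
      (Submodule.span_mono ?_)
    intro w hw
    exact ⟨w, Subtype.ext hw⟩
  have hfin : Finite {w : W // ψ w = w} := Nat.finite_of_card_ne_zero (by
    rw [Groth.Calg3.FrobFixed.natCard_fixed p hψ hss]
    exact pow_ne_zero _ hp.out.ne_zero)
  exact Finite.of_surjective (fun w : {w : W // ψ w = w} => (⟨(w.1 : V), congrArg Subtype.val w.2⟩ :
    {v : V // φ v = v})) fun v => ⟨⟨⟨v.1, Submodule.subset_span v.2⟩, Subtype.ext v.2⟩, rfl⟩

variable {X : Scheme.{u}} (p : ℕ) (hp : p.Prime) (h0 : (p : Γ(X, ⊤)) = 0)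

/-- The Frobenius endomorphism of `G_a`. -/
noncomputable def frobEndo : EtCoh.Ga X ⟶ EtCoh.Ga X :=
  W4c5etcohweilstudent.artinSchreierEndo X p hp h0 + 𝟙 _

lemma mulEt_frob (r : Γ(X, ⊤)) :
    GaLin.mulEt r ≫ frobEndo p hp h0 = frobEndo p hp h0 ≫ GaLin.mulEt (r ^ p) := by
  refine Sheaf.hom_ext (NatTrans.ext (funext fun U => ?_))
  ext s
  refine ULift.ext _ _ ?_
  let t : Γ(U.unop.left, ⊤) := s.down
  let c : Γ(U.unop.left, ⊤) := GaLin.resTo U.unop r
  show ((c * t) ^ p - c * t) + c * t = GaLin.resTo U.unop (r ^ p) * ((t ^ p - t) + t)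
  rw [map_pow]
  ring

variable {k : Type u} [Field k] [IsSepClosed k] [Fact p.Prime] [CharP k p]
  (f : X ⟶ Spec (CommRingCat.of k)) [IsProper f]

include hp h0 f

theorem surjective_and_finite_kernel (q : ℕ) :
    Function.Surjective (Sheaf.H.map (W4c5etcohweilstudent.artinSchreierEndo X p hp h0) q) ∧
      Finite {x : EtCoh.H X (EtCoh.Ga X) q //
        Sheaf.H.map (W4c5etcohweilstudent.artinSchreierEndo X p hp h0) q x = 0} := by
  letI : X.Over (Spec (CommRingCat.of k)) := ⟨f⟩
  haveI : IsProper (X ↘ Spec (CommRingCat.of k)) := ‹IsProper f›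
  haveI : IsLocallyNoetherian X := LocallyOfFiniteType.isLocallyNoetherian f
  let V := Coh.HH X (Coh.structureModule X) q
  haveI : Module.Finite k V :=
    Groth.Agent.S0002.result k X (Coh.structureModule X) Groth.QCohMod.isCoh_unit q
  obtain ⟨e, he⟩ := GaLin.exists_H_Ga_equiv X q
  let A := Sheaf.H.map (W4c5etcohweilstudent.artinSchreierEndo X p hp h0) q
  let F := Sheaf.H.map (frobEndo p hp h0) q
  let φ : V →+ V := AddMonoidHom.mk' (fun v => e (F (e.symm v))) fun a b => by
    simp only [map_add]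
  have hF : ∀ x, F x = A x + x := fun x => by
    show Sheaf.H.map (W4c5etcohweilstudent.artinSchreierEndo X p hp h0 + 𝟙 _) q x = _
    rw [Sheaf.H.map_add_apply, Sheaf.H.map_id_apply]
  have hsmul : ∀ (c : k) (v : V), c • v =
      @HSMul.hSMul (Coh.Γtop X) _ V _ (Coh.toGlobal f c) v := fun _ _ => rfl
  have hφ : Groth.SGA7.QLin.IsQLin (k := k) p φ := fun c v => by
    show e (F (e.symm (c • v))) = c ^ p • e (F (e.symm v))
    have h1 : e.symm (c • v) = Sheaf.H.map (GaLin.mulEt (Coh.toGlobal f c)) q (e.symm v) := by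
      rw [AddEquiv.symm_apply_eq, he, AddEquiv.apply_symm_apply]; rfl
    rw [h1, hsmul, ← Sheaf.H.map_comp_apply, mulEt_frob, Sheaf.H.map_comp_apply, he]
    exact congrArg (fun r => @HSMul.hSMul (Coh.Γtop X) _ V _ r _)
      (map_pow (Coh.toGlobal f) c p).symm
  refine ⟨fun y => ?_, ?_⟩
  · obtain ⟨v, hv⟩ := Groth.Calg3.FrobFixed.surjective_sub p hφ (e y)
    refine ⟨e.symm v, e.injective ?_⟩
    rw [← hv, show φ v = e (F (e.symm v)) from rfl, hF, map_add, AddEquiv.apply_symm_apply,
      add_sub_cancel_right]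
  · have := finite_fixed p hφ
    refine Finite.of_injective (fun x => (⟨e x.1, ?_⟩ : {v : V // φ v = v}))
      fun a b h => Subtype.ext (e.injective (congrArg Subtype.val h))
    show e (F (e.symm (e x.1))) = e x.1
    rw [AddEquiv.symm_apply_apply, hF, show A x.1 = 0 from x.2, zero_add]

theorem surjective_H_artinSchreier (q : ℕ) :
    Function.Surjective ((EtCoh.HF X q).map (W4c5etcohweilstudent.artinSchreierEndo X p hp h0)) :=
  (surjective_and_finite_kernel p hp h0 f q).1

theorem finite_H_const (q : ℕ) : Finite (EtCoh.H X (EtCoh.const X (ZMod p)) q) := by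
  let a := W4c5etcohweilstudent.artinSchreierEndo X p hp h0
  haveI : Epi a := Groth.Agent.S18415.result p hp h0
  obtain ⟨e⟩ := AS.nonempty_kernel_iso_const p hp h0
  let D := ShortComplex.mk (kernel.ι a) a (kernel.condition _)
  have hD : D.ShortExact := ⟨ShortComplex.exact_of_f_is_kernel D (kernelIsKernel _)⟩
  have hinj : Function.Injective (Sheaf.H.map (kernel.ι a) q) := by
    rw [injective_iff_map_eq_zero]
    intro x hx
    cases q with
    | zero =>
      obtain ⟨b, rfl⟩ := (Abelian.Ext.mk₀_bijective _ _).2 x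
      have hb : b ≫ kernel.ι a = 0 := (Abelian.Ext.mk₀_eq_zero_iff _).1
        ((Abelian.Ext.mk₀_comp_mk₀ b (kernel.ι a)).symm.trans hx)
      rw [show b = 0 from (cancel_mono (kernel.ι a)).1 (hb.trans zero_comp.symm),
        Abelian.Ext.mk₀_zero]
    | succ n =>
      obtain ⟨y, rfl⟩ := Abelian.Ext.covariant_sequence_exact₁ _ hD x hx rfl
      obtain ⟨z, rfl⟩ := (surjective_and_finite_kernel p hp h0 f n).1 y
      show ((Abelian.Ext.comp z (Abelian.Ext.mk₀ D.g) (add_zero n)).comp hD.extClass rfl) = 0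
      rw [Abelian.Ext.comp_assoc_of_second_deg_zero, hD.comp_extClass, Abelian.Ext.comp_zero]
  haveI := (surjective_and_finite_kernel p hp h0 f q).2
  have hk : Finite (EtCoh.H X (kernel a) q) := Finite.of_injective
    (fun x => (⟨Sheaf.H.map (kernel.ι a) q x, by
      rw [← Sheaf.H.map_comp_apply, kernel.condition]
      show x.comp (Abelian.Ext.mk₀ (0 : kernel a ⟶ EtCoh.Ga X)) (add_zero q) = 0
      rw [Abelian.Ext.mk₀_zero, Abelian.Ext.comp_zero]⟩ :
      {y : EtCoh.H X (EtCoh.Ga X) q // Sheaf.H.map a q y = 0}))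
    fun s t h => hinj (congrArg Subtype.val h)
  exact @Finite.of_equiv _ _ hk (((EtCoh.HF X q).mapIso e).addCommGroupIsoToAddEquiv.toEquiv)

omit hp h0 f in
/-- A semilinear map on a `d`-dimensional space has at most `p ^ d` fixed points. -/
theorem natCard_fixed_le {k : Type u} [Field k] [IsSepClosed k] (p : ℕ) [hp : Fact p.Prime] [CharP k p]
    {V : Type v} [AddCommGroup V] [Module k V] [FiniteDimensional k V] {φ : V →+ V}
    (hφ : Groth.SGA7.QLin.IsQLin (k := k) p φ) :
    Nat.card {v : V // φ v = v} ≤ p ^ Module.finrank k V := by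
  let s : Set V := {v | φ v = v}
  let W : Submodule k V := Submodule.span k s
  have hW : ∀ v ∈ W, φ v ∈ W := fun v hv => by
    have h := Groth.SGA7.QLin.map_span hφ s hv
    rwa [show φ '' s = s from by
      ext w; exact ⟨fun ⟨a, ha, e⟩ => e ▸ (ha.symm ▸ ha), fun hw => ⟨w, hw, hw⟩⟩] at h
  let ψ : W →+ W := AddMonoidHom.mk' (fun w => ⟨φ w, hW w w.2⟩)
    fun a b => Subtype.ext (map_add φ (a : V) b)
  have hψ : Groth.SGA7.QLin.IsQLin (k := k) p ψ := fun c w => Subtype.ext (hφ c (w : V))
  have hss : Submodule.span k (Set.range ψ) = ⊤ := by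
    rw [eq_top_iff]
    refine (le_of_eq (Submodule.span_span_coe_preimage (R := k) (s := s)).symm).trans
      (Submodule.span_mono ?_)
    intro w hw
    exact ⟨w, Subtype.ext hw⟩
  have hc := Groth.Calg3.FrobFixed.natCard_fixed p hψ hss
  haveI : Finite {w : W // ψ w = w} := Nat.finite_of_card_ne_zero (by
    rw [hc]; exact pow_ne_zero _ hp.out.ne_zero)
  refine le_trans ?_ (hc.le.trans (Nat.pow_le_pow_right hp.out.pos (Submodule.finrank_le W)))
  refine Nat.card_le_card_of_injective
    (fun v : {v : V // φ v = v} => (⟨⟨v.1, Submodule.subset_span v.2⟩, Subtype.ext v.2⟩ :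
      {w : W // ψ w = w})) fun a b h => Subtype.ext (congrArg (fun w => (w.1 : V)) h)

theorem natCard_H_const_le [X.Over (Spec (CommRingCat.of k))]
    (hf : X ↘ Spec (CommRingCat.of k) = f) (q : ℕ) :
    Nat.card (EtCoh.H X (EtCoh.const X (ZMod p)) q) ≤
      p ^ Module.finrank k (Coh.HH X (Coh.structureModule X) q) := by
  subst hf
  haveI : IsLocallyNoetherian X :=
    LocallyOfFiniteType.isLocallyNoetherian (X ↘ Spec (CommRingCat.of k))
  let V := Coh.HH X (Coh.structureModule X) q
  haveI : Module.Finite k V :=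
    Groth.Agent.S0002.result k X (Coh.structureModule X) Groth.QCohMod.isCoh_unit q
  obtain ⟨e, he⟩ := GaLin.exists_H_Ga_equiv X q
  let a := W4c5etcohweilstudent.artinSchreierEndo X p hp h0
  let F := Sheaf.H.map (frobEndo p hp h0) q
  let φ : V →+ V := AddMonoidHom.mk' (fun v => e (F (e.symm v))) fun a b => by
    simp only [map_add]
  have hF : ∀ x, F x = Sheaf.H.map a q x + x := fun x => by
    show Sheaf.H.map (W4c5etcohweilstudent.artinSchreierEndo X p hp h0 + 𝟙 _) q x = _
    rw [Sheaf.H.map_add_apply, Sheaf.H.map_id_apply]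
  have hφ : Groth.SGA7.QLin.IsQLin (k := k) p φ := fun c v => by
    show e (F (e.symm (c • v))) = c ^ p • e (F (e.symm v))
    have h1 : e.symm (c • v) = Sheaf.H.map
        (GaLin.mulEt (Coh.toGlobal (X ↘ Spec (CommRingCat.of k)) c)) q (e.symm v) := by
      rw [AddEquiv.symm_apply_eq, he, AddEquiv.apply_symm_apply]; rfl
    rw [h1, ← Sheaf.H.map_comp_apply, mulEt_frob, Sheaf.H.map_comp_apply, he]
    exact congrArg (fun r => @HSMul.hSMul (Coh.Γtop X) _ V _ r _)
      (map_pow (Coh.toGlobal (X ↘ Spec (CommRingCat.of k))) c p).symm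
  haveI : Epi a := Groth.Agent.S18415.result p hp h0
  obtain ⟨i⟩ := AS.nonempty_kernel_iso_const p hp h0
  let D := ShortComplex.mk (kernel.ι a) a (kernel.condition _)
  have hD : D.ShortExact := ⟨ShortComplex.exact_of_f_is_kernel D (kernelIsKernel _)⟩
  have hinj : Function.Injective (Sheaf.H.map (kernel.ι a) q) := by
    rw [injective_iff_map_eq_zero]
    intro x hx
    cases q with
    | zero =>
      obtain ⟨b, rfl⟩ := (Abelian.Ext.mk₀_bijective _ _).2 x
      have hb : b ≫ kernel.ι a = 0 := (Abelian.Ext.mk₀_eq_zero_iff _).1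
        ((Abelian.Ext.mk₀_comp_mk₀ b (kernel.ι a)).symm.trans hx)
      rw [show b = 0 from (cancel_mono (kernel.ι a)).1 (hb.trans zero_comp.symm),
        Abelian.Ext.mk₀_zero]
    | succ n =>
      obtain ⟨y, rfl⟩ := Abelian.Ext.covariant_sequence_exact₁ _ hD x hx rfl
      obtain ⟨z, rfl⟩ := (surjective_and_finite_kernel p hp h0 (X ↘ Spec (CommRingCat.of k)) n).1 y
      show ((Abelian.Ext.comp z (Abelian.Ext.mk₀ D.g) (add_zero n)).comp hD.extClass rfl) = 0
      rw [Abelian.Ext.comp_assoc_of_second_deg_zero, hD.comp_extClass, Abelian.Ext.comp_zero]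
  haveI := finite_fixed p hφ
  refine le_trans ?_ (natCard_fixed_le p hφ)
  let m := ((EtCoh.HF X q).mapIso i.symm).addCommGroupIsoToAddEquiv
  refine Nat.card_le_card_of_injective
    (fun x : EtCoh.H X (EtCoh.const X (ZMod p)) q =>
      (⟨e (Sheaf.H.map (kernel.ι a) q (m x)), ?_⟩ : {v : V // φ v = v}))
    fun s t h => m.injective (hinj (e.injective (congrArg Subtype.val h)))
  show e (F (e.symm (e _))) = e _
  rw [AddEquiv.symm_apply_apply, hF]
  refine congrArg e ?_
  rw [add_eq_right, ← Sheaf.H.map_comp_apply, kernel.condition]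
  show Abelian.Ext.comp _ (Abelian.Ext.mk₀ (0 : kernel a ⟶ EtCoh.Ga X)) (add_zero q) = 0
  rw [Abelian.Ext.mk₀_zero, Abelian.Ext.comp_zero]

end Groth.Misc3Zar.ASProper
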