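import Groth.Agent.Misc3Zar.GaLinear
import Groth.Agent.SiteCohomology.RestrictCohomology
import Groth.Agent.SiteCohomology.SpectralDimension
import Groth.Prelude.Def_W4c5etcohweilstudentAS
import Groth.Prelude.Def_FreeSh

/-!
The Artin–Schreier map on Zariski cohomology of the structure sheaf, and restriction to opens.
-/

set_option autoImplicit false
set_option backward.isDefEq.respectTransparency.types false

universe u

open CategoryTheory Limits AlgebraicGeometry Opposite TopologicalSpace

noncomputable section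

namespace Groth.Misc3Zar.ASZar

variable {X : Scheme.{u}}

lemma natCast_eq_zero (p : ℕ) (h0 : (p : Γ(X, ⊤)) = 0) (U : X.Opens) : (p : Γ(X, U)) = 0 := by
  rw [← map_natCast (X.presheaf.map (homOfLE (le_top (a := U))).op).hom p, h0, map_zero]

/-- `x ↦ x ^ p - x` on the structure sheaf. -/
def asZar (p : ℕ) (hp : p.Prime) (h0 : (p : Γ(X, ⊤)) = 0) :
    Coh.toAb (Coh.structureModule X) ⟶ Coh.toAb (Coh.structureModule X) :=
  ⟨{ app := fun U => AddCommGrpCat.ofHom
        (W4c5etcohweilstudent.asHom Γ(X, U.unop) p hp (natCast_eq_zero p h0 U.unop))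
     naturality := fun U V g => by
       ext x
       exact (W4c5etcohweilstudent.ringHom_comp_asHom (X.presheaf.map g).hom p hp
         (natCast_eq_zero p h0 U.unop) (natCast_eq_zero p h0 V.unop) x).symm }⟩

variable (p : ℕ) (hp : p.Prime) (h0 : (p : Γ(X, ⊤)) = 0)

lemma exists_zar_iso_as [EtZar.ZarCont X] :
    ∃ ψ : (EtZar.resZar X).obj (EtCoh.Ga X) ≅
        (Univ.liftF X.toTopCat).obj (Coh.toAb (Coh.structureModule X)),
      (EtZar.resZar X).map (W4c5etcohweilstudent.artinSchreierEndo X p hp h0) ≫ ψ.hom =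
        ψ.hom ≫ (Univ.liftF X.toTopCat).map (asZar p hp h0) := by
  let ψ : (EtZar.resZar X).obj (EtCoh.Ga X) ≅
      (Univ.liftF X.toTopCat).obj (Coh.toAb (Coh.structureModule X)) :=
    (sheafToPresheaf _ _).preimageIso (NatIso.ofComponents
      (fun V => AddEquiv.toAddCommGrpIso
        (X := ((EtZar.resZar X).obj (EtCoh.Ga X)).obj.obj V)
        (Y := ((Univ.liftF X.toTopCat).obj (Coh.toAb (Coh.structureModule X))).obj.obj V)
        (GaLin.secEquiv V.unop))
      (fun {V W} i => by
        ext s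
        exact congrArg ULift.up (GaLin.topIso_homOfLE i.unop.le s.down)))
  have hψ : ∀ V, ψ.hom.hom.app V =
      AddCommGrpCat.ofHom (GaLin.secEquiv V.unop).toAddMonoidHom := fun V => by
    simp only [ψ, Functor.preimageIso_hom]
    exact congrArg (fun f => NatTrans.app f V) ((sheafToPresheaf _ _).map_preimage _)
  refine ⟨ψ, Sheaf.hom_ext (NatTrans.ext (funext fun V => ?_))⟩
  show ((EtZar.resZar X).map (W4c5etcohweilstudent.artinSchreierEndo X p hp h0)).hom.app V ≫
      ψ.hom.hom.app V =
    ψ.hom.hom.app V ≫ ((Univ.liftF X.toTopCat).map (asZar p hp h0)).hom.app V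
  rw [hψ]
  ext s
  refine congrArg ULift.up ?_
  let W : X.Opens := V.unop
  let t : Γ((W : Scheme.{u}), ⊤) := s.down
  show W.topIso.hom.hom (t ^ p - t) = W.topIso.hom.hom t ^ p - W.topIso.hom.hom t
  rw [map_sub, map_pow]

/-- Surjectivity of `F - 1` on étale and on Zariski cohomology agree. -/
theorem surjective_et_iff (n : ℕ) :
    Function.Surjective (Sheaf.H.map (W4c5etcohweilstudent.artinSchreierEndo X p hp h0) n) ↔
      Function.Surjective (Sheaf.H.map (asZar p hp h0) n) := by
  haveI := zarCont X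
  haveI : (Coh.structureModule X).IsQuasicoherent := inferInstance
  obtain ⟨a, ha⟩ := GaLin.exists_resZar_equiv (S := X) n
  obtain ⟨b, hb⟩ := GaLin.exists_liftF_equiv X.toTopCat n
  obtain ⟨ψ, hψ⟩ := exists_zar_iso_as p hp h0
  have hG : AffAcyclic (EtCoh.Ga X) := affAcyclic_of_isAssoc isAssoc_Ga
  let m := ((Sheaf.functorH (Opens.grothendieckTopology X) n).mapIso ψ).addCommGroupIsoToAddEquiv
  let e : EtCoh.H X (EtCoh.Ga X) n ≃+ CohTop.H (Coh.toAb (Coh.structureModule X)) n :=
    (a _ hG).trans (m.trans (b (Coh.toAb (Coh.structureModule X))).symm)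
  have he : ∀ x, e (Sheaf.H.map (W4c5etcohweilstudent.artinSchreierEndo X p hp h0) n x) =
      Sheaf.H.map (asZar p hp h0) n (e x) := fun x => by
    refine (b (Coh.toAb (Coh.structureModule X))).injective ?_
    show b _ ((b _).symm (m (a _ hG (Sheaf.H.map _ n x)))) =
      b _ (Sheaf.H.map (asZar p hp h0) n ((b _).symm (m (a _ hG x))))
    rw [AddEquiv.apply_symm_apply, hb, AddEquiv.apply_symm_apply, ha _ _ hG hG]
    show Sheaf.H.map ψ.hom n (Sheaf.H.map _ n _) = Sheaf.H.map _ n (Sheaf.H.map ψ.hom n _)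
    rw [← Sheaf.H.map_comp_apply, ← Sheaf.H.map_comp_apply]
    exact congrArg (fun f => Sheaf.H.map f n (a _ hG x)) hψ
  constructor
  · intro h y
    obtain ⟨x, hx⟩ := h (e.symm y)
    exact ⟨e x, by rw [← he, hx, AddEquiv.apply_symm_apply]⟩
  · intro h y
    obtain ⟨x, hx⟩ := h (e y)
    exact ⟨e.symm x, e.injective (by rw [he, AddEquiv.apply_symm_apply, hx])⟩

open Groth.SiteCohomology in
/-- In top degree surjectivity of an endomorphism passes to compact opens. -/
theorem surjective_restr {Y : TopCat.{u}} [SpectralSpace Y] {d : ℕ}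
    (hd : topologicalKrullDim Y ≤ d) {F : CohTop.Ab Y} (φ : F ⟶ F) (U : Opens Y)
    (hU : IsCompact (U : Set Y)) (h : Function.Surjective (Sheaf.H.map φ d)) :
    Function.Surjective (Sheaf.H.map ((CohTop.restrFunctor U).map φ) d) := by
  let W : Opens Y := (openFunctor U).obj ⊤
  have hW : IsCompact (W : Set Y) := by
    rwa [show W = U from Opens.ext (Set.image_univ.trans Subtype.range_coe)]
  let J := Opens.grothendieckTopology Y
  let J' := Opens.grothendieckTopology (TopCat.of U)
  haveI : PreservesFiniteLimits (CohTop.restrFunctor U) :=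
    ((openFunctor U).sheafAdjunctionContinuous AddCommGrpCat.{u} J'
      J).rightAdjoint_preservesLimits.{0, 0}.preservesFiniteLimits
  haveI : PreservesFiniteColimits (CohTop.restrFunctor U) :=
    preservesFiniteColimits_sheafPushforward J' J (openFunctor U) AddCommGrpCat.{u}
  obtain ⟨e, he⟩ : ∃ e : ∀ G : CohTop.Ab Y, True →
      (CohTop.HU G d W ≃+ CohTop.H ((CohTop.restrFunctor U).obj G) d),
      ∀ (G G' : CohTop.Ab Y) (hG hG' : True) (f : G ⟶ G') (x : CohTop.HU G d W),
        e G' hG' (CohTop.HUmap f d W x) =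
          Sheaf.H.map ((CohTop.restrFunctor U).map f) d (e G hG x) := by
    refine EndoCmp.exists_natural_equiv (C := CohTop.Ab Y) (D := CohTop.Ab (TopCat.of U)) (CohCx.freeSheaf J W)
      ((constantSheaf J' AddCommGrpCat.{u}).obj (AddCommGrpCat.of (ULift.{u} ℤ)))
      (CohTop.restrFunctor U) (fun _ => True) ?τ ?hτ ?hinj ?hP d
    case τ =>
     exact fun G => (CohFree.homEquivSect J W G).trans
      (Univ.topEquiv (X := TopCat.of U) ((CohTop.restrFunctor U).obj G)).symm
    case hτ =>
      intro G G' f x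
      apply (Univ.topEquiv (X := TopCat.of U) ((CohTop.restrFunctor U).obj G')).injective
      simp only [AddEquiv.trans_apply]
      refine ((Univ.topEquiv (X := TopCat.of U) ((CohTop.restrFunctor U).obj G')).apply_symm_apply _).trans ?_
      refine Eq.trans ?_ (Univ.topEquiv_naturality (X := TopCat.of U) ((CohTop.restrFunctor U).map f) _).symm
      erw [AddEquiv.apply_symm_apply]
      exact evalGen_comp x f
    case hinj =>
     exact (fun I _ => ⟨trivial, injective_restrict J' J (openFunctor U) (locallyFiltered_openFunctor U) I⟩)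
    case hP => exact fun D hD _ _ => ⟨hD.map_of_exact _, trivial⟩
  intro y
  obtain ⟨y', rfl⟩ := (e F trivial).surjective y
  obtain ⟨z, hz⟩ := SpectralDim.surjective_res_top hd F W hW y'
  obtain ⟨z', hz'⟩ := h (HUTopEquiv F d z)
  refine ⟨e F trivial (CohTop.res F d (le_top : W ≤ ⊤) ((HUTopEquiv F d).symm z')),
    (he F F trivial trivial φ _).symm.trans (congrArg (e F trivial) ?_)⟩
  rw [← hz, show z = (HUTopEquiv F d).symm (Sheaf.H.map φ d z') from
    ((AddEquiv.symm_apply_eq _).2 hz').symm]
  let r : CohCx.freeSheaf J W ⟶ CohCx.freeSheaf J ⊤ :=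
    CohCx.freeSheafMap J (homOfLE le_top : W ⟶ ⊤)
  haveI := isIso_constToFree (J := J) (Preorder.isTerminalTop (Opens Y))
  let c := (asIso (constToFree J (Preorder.isTerminalTop (Opens Y)))).inv
  show ((Abelian.Ext.mk₀ r).comp ((Abelian.Ext.mk₀ c).comp z' (zero_add d)) (zero_add d)).comp
      (Abelian.Ext.mk₀ φ) (add_zero d) =
    (Abelian.Ext.mk₀ r).comp ((Abelian.Ext.mk₀ c).comp
      (z'.comp (Abelian.Ext.mk₀ φ) (add_zero d)) (zero_add d)) (zero_add d)
  rw [Abelian.Ext.comp_assoc_of_third_deg_zero, Abelian.Ext.comp_assoc_of_third_deg_zero]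

/-- Restriction of `F - 1` to an open subscheme. -/
theorem surjective_asZar_opens (d : ℕ) [CompactSpace X] [QuasiSeparatedSpace X]
    (hd : topologicalKrullDim X ≤ d) (U : X.Opens) (hU : IsCompact (U : Set X))
    (h : Function.Surjective (Sheaf.H.map (asZar p hp h0) d)) (hU0 : (p : Γ((U : Scheme.{u}), ⊤)) = 0) :
    Function.Surjective (Sheaf.H.map (asZar (X := (U : Scheme.{u})) p hp hU0) d) := by
  haveI : SpectralSpace X := SpectralSpace.mk
  haveI : SpectralSpace ↑X.toTopCat := ‹SpectralSpace X›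
  exact surjective_restr (Y := X.toTopCat) hd (asZar p hp h0) U hU h

end Groth.Misc3Zar.ASZar

end
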