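import Groth.Agent.Misc3Zar.QCohCompare
import Groth.Agent.PicAux.Pullback
import Groth.Agent.CohBase.AffineVanishing
import Groth.Prelude.Def_EtGm

/-!
# `G_a` is the étale sheaf of the structure module
-/

set_option autoImplicit false
set_option backward.isDefEq.respectTransparency.types false

universe u

open CategoryTheory Limits AlgebraicGeometry Opposite TopologicalSpace

noncomputable section

namespace Groth.Misc3Zar

open Groth.DescentBase
open Groth.PicAux (pullSec oneSec gen_oneSec)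

variable {S : Scheme.{u}}

/-- The unit element over a test scheme. -/
def oneEl {T : Scheme.{u}} (u : T ⟶ S) : El (Coh.structureModule S) u :=
  el (U := (⊤ : S.Opens)) u le_top (oneSec S ⊤)

theorem bc_oneEl {T T' : Scheme.{u}} (h : T' ⟶ T) (u : T ⟶ S) (u' : T' ⟶ S) (e : h ≫ u = u') :
    bc h u u' e (oneEl u) = oneEl u' :=
  bc_el h u u' e le_top _

theorem oneEl_bijective {T : Scheme.{u}} (u : T ⟶ S) :
    Function.Bijective fun r : Γ(T, ⊤) => r • oneEl u := by
  have h : Function.Bijective fun r : Γ(T, ⊤) =>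
      r • Groth.PicAux.res _ (le_refl (⊤ : T.Opens)) (pullSec u (Coh.structureModule S) (oneSec S ⊤)) :=
    (Groth.PicAux.Gen.pull_top u (gen_oneSec ⊤)) ⊤ le_rfl
  exact h

/-- Functions are elements of the structure module. -/
def funEquiv {T : Scheme.{u}} (u : T ⟶ S) : Γ(T, ⊤) ≃+ El (Coh.structureModule S) u :=
  AddEquiv.ofBijective (AddMonoidHom.mk' (fun r => r • oneEl u) fun _ _ => add_smul _ _ _) (oneEl_bijective u)

theorem isAssoc_Ga : EtAssoc.IsAssoc (Coh.structureModule S) (EtCoh.Ga S) := by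
  refine ⟨fun U => AddEquiv.ulift.trans ((funEquiv U.hom).trans AddEquiv.ulift.symm), fun U U' g s => ?_⟩
  rw [resMap_eq_bc]
  exact ((bc_smul g.left U.hom U'.hom (Over.w g.hom) (s.down : Γ(U.left, ⊤)) (oneEl U.hom)).trans
    (congrArg _ (bc_oneEl _ _ _ _))).symm

theorem nonempty_H_Ga (X : Scheme.{u}) (p : ℕ) :
    Nonempty (EtCoh.H X (EtCoh.Ga X) p ≃+ Coh.HH X (Coh.structureModule X) p) := by
  obtain ⟨e⟩ := nonempty_H_assoc (Coh.structureModule X) (EtCoh.Ga X) isAssoc_Ga p
  exact ⟨e.trans AddEquiv.ulift⟩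

end Groth.Misc3Zar

end
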