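import Groth.Agent.Misc3Zar.QCohCompare
import Groth.Agent.Misc3Zar.AffineVanish
import Groth.Agent.CohFin.Acyclic
import Groth.Agent.S0007

/-!
# Associated sheaves of quasi-coherent modules are acyclic on affine étale schemes
-/

set_option autoImplicit false
set_option backward.isDefEq.respectTransparency.types false

universe u

open CategoryTheory Limits AlgebraicGeometry Opposite TopologicalSpace

noncomputable section

namespace Groth.Misc3Zar

open Groth.DescentBase
attribute [local instance] Groth.EtaleBase.InjCoh.jCont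

variable {S : Scheme.{u}} {F : S.Modules}

theorem isAssoc_restrAlong {T : Scheme.{u}} (j : T ⟶ S) [Etale j] {G : EtCoh.Ab S}
    (hG : EtAssoc.IsAssoc F G) :
    EtAssoc.IsAssoc ((Scheme.Modules.pullback j).obj F) ((EtShriek.restrAlong j).obj G) := by
  obtain ⟨e, he⟩ := hG
  let fl : ∀ V : T.Etale, El ((Scheme.Modules.pullback j).obj F) V.hom ≃+ El F (V.hom ≫ j) := fun V =>
    AddEquiv.ofBijective (AddMonoidHom.mk' (flat (N := F) j V.hom (V.hom ≫ j) rfl)
      fun x y => map_add ((pullTo V.hom j (V.hom ≫ j) rfl F).hom.app ⊤).hom x y)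
      (flat_bijective j V.hom _ rfl)
  refine ⟨fun V => (e ((EtShriek.compEtale j).obj V)).trans
    (AddEquiv.ulift.trans ((fl V).symm.trans AddEquiv.ulift.symm)), fun U U' g s => ?_⟩
  rw [resMap_eq_bc]
  refine (fl U').injective ?_
  show fl U' ((fl U').symm (e _ (G.obj.map ((EtShriek.compEtale j).map g).op s)).down) =
    fl U' (bc g.left U.hom U'.hom (Over.w g.hom) ((fl U).symm (e _ s).down))
  rw [AddEquiv.apply_symm_apply, he _ _ ((EtShriek.compEtale j).map g) s, resMap_eq_bc]
  refine Eq.trans ?_ (flat_bc (N := F) j g.left U.hom U'.hom (Over.w g.hom) (U.hom ≫ j) rfl (U'.hom ≫ j) rfl _).symm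
  refine congrArg (bc g.left (U.hom ≫ j) (U'.hom ≫ j) _) ?_
  exact ((fl U).apply_symm_apply _).symm

/-- An associated sheaf is acyclic on affine étale schemes. -/
theorem affAcyclic_of_isAssoc [F.IsQuasicoherent] {G : EtCoh.Ab S} (hG : EtAssoc.IsAssoc F G) :
    AffAcyclic G := by
  intro T hT i hi
  have : Etale T.hom := T.prop
  have hG' := isAssoc_restrAlong T.hom hG
  obtain ⟨e⟩ := nonempty_H_assoc _ _ hG' i
  have h0 : Subsingleton (Coh.HH T.left ((Scheme.Modules.pullback T.hom).obj F) i) :=
    Groth.Agent.S0007.result T.left _ i (by omega)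
  have h1 : Subsingleton (ULift.{u + 1} (Coh.HH T.left ((Scheme.Modules.pullback T.hom).obj F) i)) :=
    ⟨fun x y => ULift.ext _ _ (h0.elim _ _)⟩
  have h2 : Subsingleton (EtCoh.H T.left ((EtShriek.restrAlong T.hom).obj G) i) :=
    @Equiv.subsingleton _ _ e.toEquiv h1
  let τ := (Groth.EtaleBase.pullRestrIso T.hom).app G
  refine ⟨fun x y => ?_⟩
  have key : ∀ z : EtCoh.H T.left ((EtCoh.pull T.hom).obj G) i,
      Sheaf.H.map τ.inv i (Sheaf.H.map τ.hom i z) = z := fun z => by
    rw [← Sheaf.H.map_comp_apply, τ.hom_inv_id, Sheaf.H.map_id_apply]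
  rw [← key x, ← key y]
  exact congrArg _ (h2.elim _ _)

/-- Sheaves acyclic on affine étale schemes have no higher direct images to the Zariski site. -/
theorem isZero_rightDerived_resZar [EtZar.ZarCont S] [(EtZar.resZar S).Additive] :
    ∀ (q : ℕ) (G : EtCoh.Ab S), AffAcyclic G → IsZero (((EtZar.resZar S).rightDerived (q + 1)).obj G) := by
  let adj := (EtZar.zarToEt S).sheafAdjunctionContinuous AddCommGrpCat.{u + 1}
    (Opens.grothendieckTopology S) S.smallEtaleTopology
  have : PreservesFiniteLimits (EtZar.resZar S) :=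
    adj.rightAdjoint_preservesLimits.{0, 0}.preservesFiniteLimits
  intro q
  induction q with
  | zero =>
    intro G hG
    let D := Groth.CohFin.injSeq G
    have hD : D.ShortExact := Groth.CohFin.injSeq_shortExact G
    obtain ⟨e⟩ := Groth.CohFin.nonempty_rightDerived_one_iso_of_injective (F := EtZar.resZar S) hD
    haveI : Epi ((EtZar.resZar S).map D.g) := (shortExact_resZar hD hG).epi_g
    exact (isZero_cokernel_of_epi _).of_iso e
  | succ q ih =>
    intro G hG
    let D := Groth.CohFin.injSeq G
    have hD : D.ShortExact := Groth.CohFin.injSeq_shortExact G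
    exact (ih D.X₃ (affAcyclic_coker hD hG)).of_iso (Groth.CohBase.rightDerivedShift hD (EtZar.resZar S) q)

end Groth.Misc3Zar

end
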