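import Groth.Agent.Misc3Zar.UnivInjective
import Groth.Agent.SiteCohomology.AcyclicResolution
import Groth.Agent.MiscGeom.ZarCompare
import Groth.Prelude.Def_EtZar

/-!
# Cohomology of a space does not depend on the universe of values
-/

set_option autoImplicit false
set_option backward.isDefEq.respectTransparency.types false

universe u w

open CategoryTheory Limits Opposite TopologicalSpace

noncomputable section

namespace Groth.Misc3Zar.Univ

variable {X : TopCat.{u}}

instance essSmall_opens : EssentiallySmall.{u + 1} (Opens X) :=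
  essentiallySmall_of_small_of_locallySmall _

instance hasSheafify_up : HasSheafify (Opens.grothendieckTopology X) AddCommGrpCat.{u + 1} :=
  hasSheafifyEssentiallySmallSite _ _

instance isGrothendieckAbelian_up : IsGrothendieckAbelian.{u + 1} (AbUp X) :=
  Sheaf.isGrothendieckAbelian_of_essentiallySmall _ _

instance additive_liftF : (liftF X).Additive where
  map_add {F G f g} := Sheaf.hom_ext (by ext U s; rfl)

instance preservesFiniteLimits_liftF : PreservesFiniteLimits (liftF X) := by
  refine ⟨fun J _ _ => ?_⟩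
  haveI : PreservesLimitsOfShape J (liftF X ⋙ sheafToPresheaf (Opens.grothendieckTopology X) AddCommGrpCat.{u + 1}) :=
    inferInstanceAs (PreservesLimitsOfShape J (sheafToPresheaf (Opens.grothendieckTopology X) AddCommGrpCat.{u} ⋙
      (Functor.whiskeringRight _ _ _).obj AddCommGrpCat.uliftFunctor.{u + 1, u}))
  exact preservesLimitsOfShape_of_reflects_of_preserves (liftF X)
    (sheafToPresheaf (Opens.grothendieckTopology X) AddCommGrpCat.{u + 1})

theorem epi_liftF_map {F G : CohTop.Ab X} (f : F ⟶ G) [Epi f] : Epi ((liftF X).map f) := by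
  haveI : Sheaf.IsLocallySurjective f := (Sheaf.isLocallySurjective_iff_epi' AddCommGrpCat.{u} f).2 ‹_›
  haveI : Sheaf.IsLocallySurjective ((liftF X).map f) := ⟨fun {U} s => by
    refine GrothendieckTopology.superset_covering _ ?_
      (Presheaf.imageSieve_mem (Opens.grothendieckTopology X) f.hom s.down)
    rintro V i ⟨t, ht⟩
    exact ⟨ULift.up t, congrArg ULift.up ht⟩⟩
  exact Sheaf.epi_of_isLocallySurjective _

/-- The constant sheaf `ℤ`. -/
abbrev zConst (X : TopCat.{u}) : Sheaf (Opens.grothendieckTopology X) AddCommGrpCat.{u + 1} :=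
  (constantSheaf (Opens.grothendieckTopology X) AddCommGrpCat.{u + 1}).obj (AddCommGrpCat.of (ULift.{u + 1} ℤ))

section Top

variable [HasSheafify (Opens.grothendieckTopology X) AddCommGrpCat.{w}]

/-- Maps out of the constant sheaf are global sections. -/
def topEquiv (F : Sheaf (Opens.grothendieckTopology X) AddCommGrpCat.{w}) :
    ((constantSheaf (Opens.grothendieckTopology X) AddCommGrpCat.{w}).obj (AddCommGrpCat.of (ULift.{w} ℤ)) ⟶ F) ≃+
      F.obj.obj (op ⊤) :=
  ((constantSheafAdj (Opens.grothendieckTopology X) AddCommGrpCat.{w} (T := (⊤ : Opens X))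
    isTerminalTop).homAddEquiv _ F).trans (AddCommGrpCat.uliftZMultiplesAddEquiv _)

theorem topEquiv_naturality {F G : Sheaf (Opens.grothendieckTopology X) AddCommGrpCat.{w}} (f : F ⟶ G) (φ) :
    topEquiv G (φ ≫ f) = f.hom.app (op ⊤) (topEquiv F φ) := by
  simp only [topEquiv, AddEquiv.trans_apply, Adjunction.homAddEquiv_apply, Adjunction.homEquiv_naturality_right]
  rfl

end Top

/-- `H^n(X, F)` with values one universe up is `ULift H^n(X, F)`. -/
theorem nonempty_H_liftF [HasExt.{u + 1} (AbUp X)] (F : CohTop.Ab X) (n : ℕ) :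
    Nonempty (Sheaf.H ((liftF X).obj F) n ≃+ ULift.{u + 1} (CohTop.H F n)) := by
  let Z := (constantSheaf (Opens.grothendieckTopology X) AddCommGrpCat.{u}).obj (AddCommGrpCat.of (ULift.{u} ℤ))
  let I : InjectiveResolution F := injectiveResolution F
  let U := AddCommGrpCat.uliftFunctor.{u + 1, u}
  let K := ((preadditiveCoyoneda.obj (op Z)).mapHomologicalComplex (ComplexShape.up ℕ)).obj I.cocomplex
  let τ : liftF X ⋙ preadditiveCoyoneda.obj (op (zConst X)) ≅ preadditiveCoyoneda.obj (op Z) ⋙ U :=
    NatIso.ofComponents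
      (fun G => AddEquiv.toAddCommGrpIso
        (X := (liftF X ⋙ preadditiveCoyoneda.obj (op (zConst X))).obj G)
        (Y := (preadditiveCoyoneda.obj (op Z) ⋙ U).obj G)
        ((topEquiv ((liftF X).obj G)).trans (AddEquiv.ulift.trans ((topEquiv G).symm.trans AddEquiv.ulift.symm))))
      fun {G G'} f => by
        ext (φ : zConst X ⟶ (liftF X).obj G)
        refine ULift.ext _ _ ?_
        show (topEquiv G').symm (topEquiv ((liftF X).obj G') (φ ≫ (liftF X).map f)).down =
          (topEquiv G).symm (topEquiv ((liftF X).obj G) φ).down ≫ f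
        refine (topEquiv G').injective ?_
        rw [AddEquiv.apply_symm_apply, topEquiv_naturality, topEquiv_naturality, AddEquiv.apply_symm_apply]
        rfl
  let K₁ := ((preadditiveCoyoneda.obj (op (zConst X))).mapHomologicalComplex (ComplexShape.up ℕ)).obj
    (((liftF X).mapHomologicalComplex (ComplexShape.up ℕ)).obj I.cocomplex)
  let K₂ := (U.mapHomologicalComplex (ComplexShape.up ℕ)).obj K
  let eK : K₁ ≅ K₂ := HomologicalComplex.Hom.isoOfComponents (fun i => τ.app (I.cocomplex.X i))
    fun p r _ => (τ.hom.naturality (I.cocomplex.d p r)).symm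
  obtain ⟨e₁⟩ := Groth.SiteCohomology.AcyclicRes.nonempty_homology_equiv_ext (zConst X)
    (((liftF X).mapHomologicalComplex (ComplexShape.up ℕ)).obj I.cocomplex) ((liftF X).map (I.ι.f 0))
    (Groth.MiscGeom.Adq.Cech.isResolution_map I (liftF X) fun i => by
      haveI := (Groth.MiscGeom.Adq.Cech.cycSC_shortExact I i).epi_g
      exact epi_liftF_map _) n
    (fun i r _ => by
      haveI : Injective (((((liftF X)).mapHomologicalComplex (ComplexShape.up ℕ)).obj I.cocomplex).X i) :=
        injective_liftF (I.cocomplex.X i)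
      exact subsingleton_of_forall_eq 0 fun x => Abelian.Ext.eq_zero_of_injective x)
  obtain ⟨e₂⟩ := Groth.SiteCohomology.AcyclicRes.nonempty_homology_equiv_ext Z I.cocomplex (I.ι.f 0)
    (Groth.MiscGeom.Adq.Cech.isResolution_injectiveResolution I) n
    (fun i r _ => subsingleton_of_forall_eq 0 fun x => Abelian.Ext.eq_zero_of_injective x)
  exact ⟨e₁.symm.trans <|
    (((HomologicalComplex.homologyFunctor _ _ n).mapIso eK) ≪≫
      ((K.sc n).mapHomologyIso U : ((K.sc n).map U).homology ≅ U.obj (K.homology n))).addCommGroupIsoToAddEquiv.trans <|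
    AddEquiv.ulift.trans (e₂.trans AddEquiv.ulift.symm)⟩

end Groth.Misc3Zar.Univ

end
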