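import Groth.Agent.Misc3Zar.GaCompare
import Groth.Agent.Misc3Zar.QCohAffAcyclic
import Groth.Agent.Misc3Zar.UnivCohomology
import Groth.Agent.Misc3Zar.EndoCompare
import Groth.Prelude.Def_EtCore

/-!
`H^n(S_et, G_a) = H^n(S, O_S)`, compatibly with multiplication by global functions.
-/

set_option autoImplicit false
set_option backward.isDefEq.respectTransparency.types false

universe u

open CategoryTheory Limits AlgebraicGeometry Opposite TopologicalSpace

noncomputable section

namespace Groth.Misc3Zar.GaLin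

variable {S : Scheme.{u}}

/-- Restriction of global functions to an étale scheme. -/
abbrev resTo (U : S.Etale) : Γ(S, ⊤) →+* Γ(U.left, ⊤) := U.hom.appTop.hom

/-- Multiplication by a global function on `G_a`. -/
def mulEt (r : Γ(S, ⊤)) : EtCoh.Ga S ⟶ EtCoh.Ga S :=
  ⟨{ app := fun U => AddCommGrpCat.uliftFunctor.{u + 1}.map
        (AddCommGrpCat.ofHom (AddMonoidHom.mulLeft (resTo U.unop r)))
     naturality := fun U V g => by
       ext s
       obtain ⟨x⟩ := s
       change Γ(U.unop.left, ⊤) at x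
       refine congrArg ULift.up ?_
       show resTo V.unop r * (g.unop.left.appTop.hom x : Γ(V.unop.left, ⊤)) =
         g.unop.left.appTop.hom (resTo U.unop r * x)
       refine (Eq.trans (map_mul g.unop.left.appTop.hom _ _) ?_).symm
       refine congrArg (fun c : Γ(V.unop.left, ⊤) => c * (g.unop.left.appTop.hom x : Γ(V.unop.left, ⊤))) ?_
       show (U.unop.hom.appTop ≫ g.unop.left.appTop) r = V.unop.hom.appTop r
       rw [← Scheme.Hom.comp_appTop, show g.unop.left ≫ U.unop.hom = V.unop.hom from Over.w g.unop.hom] }⟩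

lemma mulEt_app (r : Γ(S, ⊤)) (U : S.Etale) (x : Γ(U.left, ⊤)) :
    ((mulEt r).hom.app (op U) (ULift.up x)).down = resTo U r * x := rfl

/-- Sections of `G_a` over an open are functions on it. -/
def secEquiv (V : S.Opens) : (EtCoh.Ga S).obj.obj (op ((EtZar.zarToEt S).obj V)) ≃+
    ULift.{u + 1} ((Coh.toAb (Coh.structureModule S)).obj.obj (op V)) :=
  AddEquiv.ulift.trans (((V.topIso).commRingCatIsoToRingEquiv.toAddEquiv :
    Γ((V : Scheme.{u}), ⊤) ≃+ Γ(S, V)).trans AddEquiv.ulift.symm)

lemma topIso_homOfLE {V W : S.Opens} (h : W ≤ V) (x : Γ((V : Scheme.{u}), ⊤)) :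
    W.topIso.hom ((S.homOfLE h).appTop x) = S.presheaf.map (homOfLE h).op (V.topIso.hom x) := by
  rw [← ConcreteCategory.comp_apply, ← ConcreteCategory.comp_apply]
  congr 2
  simp only [Scheme.Opens.topIso_hom, Scheme.homOfLE_appTop, eqToHom_op]
  erw [← Functor.map_comp, ← Functor.map_comp]
  rfl

lemma topIso_ι (V : S.Opens) (r : Γ(S, ⊤)) :
    V.topIso.hom (V.ι.appTop r) = S.presheaf.map (homOfLE (le_top (a := V))).op r := by
  rw [← ConcreteCategory.comp_apply]
  congr 2
  simp only [Scheme.Opens.topIso_hom, Scheme.Opens.ι_appTop, eqToHom_op]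
  erw [← Functor.map_comp]
  rfl

lemma exists_zar_iso [EtZar.ZarCont S] :
    ∃ ψ : (EtZar.resZar S).obj (EtCoh.Ga S) ≅
        (Univ.liftF S.toTopCat).obj (Coh.toAb (Coh.structureModule S)),
      ∀ r : Γ(S, ⊤), (EtZar.resZar S).map (mulEt r) ≫ ψ.hom =
        ψ.hom ≫ (Univ.liftF S.toTopCat).map (Coh.smulAb (Coh.structureModule S) r) := by
  let ψ : (EtZar.resZar S).obj (EtCoh.Ga S) ≅
      (Univ.liftF S.toTopCat).obj (Coh.toAb (Coh.structureModule S)) :=
    (sheafToPresheaf _ _).preimageIso (NatIso.ofComponents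
      (fun V => AddEquiv.toAddCommGrpIso
        (X := ((EtZar.resZar S).obj (EtCoh.Ga S)).obj.obj V)
        (Y := ((Univ.liftF S.toTopCat).obj (Coh.toAb (Coh.structureModule S))).obj.obj V)
        (secEquiv V.unop))
      (fun {V W} i => by
        ext s
        exact congrArg ULift.up (topIso_homOfLE i.unop.le s.down)))
  have hψ : ∀ V, ψ.hom.hom.app V =
      AddCommGrpCat.ofHom (secEquiv V.unop).toAddMonoidHom := fun V => by
    simp only [ψ, Functor.preimageIso_hom]
    exact congrArg (fun f => NatTrans.app f V) ((sheafToPresheaf _ _).map_preimage _)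
  refine ⟨ψ, fun r => Sheaf.hom_ext (NatTrans.ext (funext fun V => ?_))⟩
  show ((EtZar.resZar S).map (mulEt r)).hom.app V ≫ ψ.hom.hom.app V =
    ψ.hom.hom.app V ≫ ((Univ.liftF S.toTopCat).map (Coh.smulAb (Coh.structureModule S) r)).hom.app V
  rw [hψ]
  ext s
  refine congrArg ULift.up ?_
  let W : S.Opens := V.unop
  let t : Γ((W : Scheme.{u}), ⊤) := s.down
  show W.topIso.hom (W.ι.appTop r * t) =
    (S.presheaf.map (homOfLE (le_top (a := W))).op r : Γ(S, W)) * W.topIso.hom t
  rw [map_mul, topIso_ι]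

/-- `(zarToEt S).obj ⊤` is terminal. -/
def zarTopIsTerminal (S : Scheme.{u}) : IsTerminal ((EtZar.zarToEt S).obj ⊤) :=
  (EtCore.topIsTerminal S).ofIso
    (MorphismProperty.Over.isoMk (B := EtCoh.top S) (A := (EtZar.zarToEt S).obj ⊤) S.topIso
      (Category.comp_id _)).symm

/-- Maps out of `ℤ` on the étale site are sections over the whole space. -/
def etTopEquiv (G : EtCoh.Ab S) :
    ((constantSheaf S.smallEtaleTopology AddCommGrpCat.{u + 1}).obj
      (AddCommGrpCat.of (ULift.{u + 1} ℤ)) ⟶ G) ≃+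
      G.obj.obj (op ((EtZar.zarToEt S).obj ⊤)) :=
  ((constantSheafAdj S.smallEtaleTopology AddCommGrpCat.{u + 1}
    (zarTopIsTerminal S)).homAddEquiv _ G).trans (AddCommGrpCat.uliftZMultiplesAddEquiv _)

lemma etTopEquiv_naturality {F G : EtCoh.Ab S} (f : F ⟶ G) (φ) :
    etTopEquiv G (φ ≫ f) = f.hom.app _ (etTopEquiv F φ) := by
  simp only [etTopEquiv, AddEquiv.trans_apply, Adjunction.homAddEquiv_apply,
    Adjunction.homEquiv_naturality_right]
  rfl

lemma affAcyclic_of_injective (I : EtCoh.Ab S) [Injective I] : AffAcyclic I := by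
  intro T _ i hi
  have : AlgebraicGeometry.Etale T.hom := T.prop
  have : Injective ((EtCoh.pull T.hom).obj I) := Groth.EtaleBase.InjCoh.pull_injective T.hom I
  exact Groth.EtaleBase.InjCoh.H_injective _ i hi

/-- Étale cohomology of acyclic sheaves is Zariski cohomology, naturally. -/
theorem exists_resZar_equiv [EtZar.ZarCont S] (n : ℕ) :
    ∃ e : ∀ G : EtCoh.Ab S, AffAcyclic G → (EtCoh.H S G n ≃+ EtZar.H ((EtZar.resZar S).obj G) n),
      ∀ (G G' : EtCoh.Ab S) (hG : AffAcyclic G) (hG' : AffAcyclic G') (f : G ⟶ G')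
        (x : EtCoh.H S G n), e G' hG' (Sheaf.H.map f n x) =
          Sheaf.H.map ((EtZar.resZar S).map f) n (e G hG x) := by
  haveI : (EtZar.resZar S).Additive := by
    let adj := (EtZar.zarToEt S).sheafAdjunctionContinuous AddCommGrpCat.{u + 1}
      (Opens.grothendieckTopology S) S.smallEtaleTopology
    have : PreservesFiniteLimits (EtZar.resZar S) :=
      adj.rightAdjoint_preservesLimits.{0, 0}.preservesFiniteLimits
    exact Functor.additive_of_preserves_binary_products _
  exact EndoCmp.exists_natural_equiv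
    ((constantSheaf S.smallEtaleTopology AddCommGrpCat.{u + 1}).obj
      (AddCommGrpCat.of (ULift.{u + 1} ℤ)))
    ((constantSheaf (Opens.grothendieckTopology S) AddCommGrpCat.{u + 1}).obj
      (AddCommGrpCat.of (ULift.{u + 1} ℤ)))
    (EtZar.resZar S) AffAcyclic
    (fun G => (etTopEquiv G).trans (Univ.topEquiv (X := S.toTopCat) ((EtZar.resZar S).obj G)).symm)
    (fun {G G'} f x => (Univ.topEquiv (X := S.toTopCat) ((EtZar.resZar S).obj G')).injective
      (((Univ.topEquiv (X := S.toTopCat) _).apply_symm_apply _).trans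
        ((etTopEquiv_naturality f x).trans ((congrArg (((EtZar.resZar S).map f).hom.app (op ⊤))
          ((Univ.topEquiv (X := S.toTopCat) ((EtZar.resZar S).obj G)).apply_symm_apply (etTopEquiv G x))).symm.trans
          (Univ.topEquiv_naturality (X := S.toTopCat) ((EtZar.resZar S).map f) _).symm))))
    (fun I _ => ⟨affAcyclic_of_injective I, injective_resZar I⟩)
    (fun D hD _ h => ⟨shortExact_resZar hD h, affAcyclic_coker hD h⟩) n

/-- Cohomology of a space with values one universe up, naturally. -/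
theorem exists_liftF_equiv (X : TopCat.{u}) (n : ℕ) :
    ∃ e : ∀ F : CohTop.Ab X, (CohTop.H F n ≃+ Sheaf.H ((Univ.liftF X).obj F) n),
      ∀ (F F' : CohTop.Ab X) (f : F ⟶ F') (x : CohTop.H F n),
        e F' (Sheaf.H.map f n x) = Sheaf.H.map ((Univ.liftF X).map f) n (e F x) := by
  obtain ⟨e, he⟩ := EndoCmp.exists_natural_equiv
    ((constantSheaf (Opens.grothendieckTopology X) AddCommGrpCat.{u}).obj
      (AddCommGrpCat.of (ULift.{u} ℤ)))
    (Univ.zConst X) (Univ.liftF X) (fun _ => True)
    (fun F => (Univ.topEquiv F).trans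
      (AddEquiv.ulift.symm.trans (Univ.topEquiv ((Univ.liftF X).obj F)).symm))
    (fun {G G'} f x => (Univ.topEquiv ((Univ.liftF X).obj G')).injective
      (((Univ.topEquiv _).apply_symm_apply _).trans
        ((congrArg ULift.up (Univ.topEquiv_naturality f x)).trans
          ((congrArg (((Univ.liftF X).map f).hom.app (op ⊤))
          ((Univ.topEquiv ((Univ.liftF X).obj G)).apply_symm_apply
            (AddEquiv.ulift.symm (Univ.topEquiv G x)))).symm.trans
          (Univ.topEquiv_naturality ((Univ.liftF X).map f) _).symm))))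
    (fun I _ => ⟨trivial, Univ.injective_liftF I⟩)
    (fun D hD _ _ => ⟨by
      haveI := hD.mono_f
      haveI := hD.epi_g
      haveI : Mono (D.map (Univ.liftF X)).f := inferInstanceAs (Mono ((Univ.liftF X).map D.f))
      haveI : Epi (D.map (Univ.liftF X)).g := Univ.epi_liftF_map D.g
      exact { exact := hD.exact.map_of_mono_of_preservesKernel _ hD.mono_f inferInstance },
      trivial⟩) n
  exact ⟨fun F => e F trivial, fun F F' f x => he F F' trivial trivial f x⟩

/-- `H^n(S_et, G_a) = H^n(S, O_S)`, linearly over global functions. -/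
theorem exists_H_Ga_equiv (S : Scheme.{u}) (n : ℕ) :
    ∃ e : EtCoh.H S (EtCoh.Ga S) n ≃+ Coh.HH S (Coh.structureModule S) n,
      ∀ (r : Γ(S, ⊤)) (x : EtCoh.H S (EtCoh.Ga S) n),
        e (Sheaf.H.map (mulEt r) n x) =
          @HSMul.hSMul (Coh.Γtop S) _ (Coh.HH S (Coh.structureModule S) n) _ r (e x) := by
  haveI := zarCont S
  haveI : (Coh.structureModule S).IsQuasicoherent := inferInstance
  obtain ⟨a, ha⟩ := exists_resZar_equiv (S := S) n
  obtain ⟨b, hb⟩ := exists_liftF_equiv S.toTopCat n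
  obtain ⟨ψ, hψ⟩ := exists_zar_iso (S := S)
  have hG : AffAcyclic (EtCoh.Ga S) := affAcyclic_of_isAssoc isAssoc_Ga
  let m := ((Sheaf.functorH (Opens.grothendieckTopology S) n).mapIso ψ).addCommGroupIsoToAddEquiv
  refine ⟨(a _ hG).trans (m.trans (b (Coh.toAb (Coh.structureModule S))).symm), fun r x => ?_⟩
  refine (b (Coh.toAb (Coh.structureModule S))).injective ?_
  show b _ ((b _).symm (m (a _ hG (Sheaf.H.map (mulEt r) n x)))) =
    b _ (Sheaf.H.map (Coh.smulAb (Coh.structureModule S) r) n ((b _).symm (m (a _ hG x))))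
  rw [AddEquiv.apply_symm_apply, hb, AddEquiv.apply_symm_apply, ha _ _ hG hG]
  show Sheaf.H.map ψ.hom n (Sheaf.H.map _ n _) = Sheaf.H.map _ n (Sheaf.H.map ψ.hom n _)
  rw [← Sheaf.H.map_comp_apply, ← Sheaf.H.map_comp_apply]
  exact congrArg (fun f => Sheaf.H.map f n (a _ hG x)) (hψ r)

end Groth.Misc3Zar.GaLin

end
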