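import Groth.Agent.Misc3Zar.QCohBig
import Groth.Agent.MiscGeom.CechCohom
import Groth.Agent.MiscGeom.AdeqExt2

/-!
# Čech acyclicity of `T ↦ Γ(T, t^*F)`
-/

set_option autoImplicit false
set_option backward.isDefEq.respectTransparency.types false

universe u

open CategoryTheory Limits AlgebraicGeometry Opposite TopologicalSpace TensorProduct

noncomputable section

namespace Groth.Misc3Zar

open Groth.DescentBase Groth.MiscGeom.Adq Groth.MiscGeom.Adq.Cech Adeq
open Groth.PicAux (pullSec)
open Groth.QCohMod (res pullSecEquiv sectionsAlg)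

variable {S : Scheme.{u}} (F : S.Modules) {R : CommRingCat.{u}} (a : Spec R ⟶ S)

/-- Global sections of `a^*F` on the affine test scheme. -/
abbrev Msec : Type u := El F a

instance moduleMsec : Module R (Msec F a) :=
  Module.compHom _ (Scheme.ΓSpecIso R).inv.hom

/-- The same, one universe up. -/
abbrev Mlift : ModuleCat.{u + 1} R := ModuleCat.of R (ULift.{u + 1} (Msec F a))

/-- Structure map of an affine test scheme over `Spec R`. -/
theorem appLE_bB (D : Alg R) (r : R) :
    (bB D).appLE ⊤ ⊤ le_top ((Scheme.ΓSpecIso R).inv r) =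
      (Scheme.ΓSpecIso (CommRingCat.of D)).inv (algebraMap R D r) := by
  have h := ConcreteCategory.congr_hom (Scheme.ΓSpecIso_inv_naturality (CommRingCat.ofHom (algebraMap R D))) r
  refine Eq.trans ?_ h.symm
  exact ConcreteCategory.congr_hom (Scheme.Hom.appLE_eq_app (bB D) (U := ⊤)) ((Scheme.ΓSpecIso R).inv r)

/-- The pulled back element, as an element over the composite. -/
def unitEl (D : Alg R) (m : Msec F a) : El F (bB D ≫ a) :=
  bc (bB D) a (bB D ≫ a) rfl m

/-- `D ⊗ Γ(a^*F) → Γ(Spec D, ·)`. -/
def phiAb (D : Alg R) : (D ⊗[R] Mlift F a) →+ ULift.{u + 1} (El F (bB D ≫ a)) :=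
  TensorProduct.liftAddHom
    { toFun := fun b =>
        { toFun := fun m => ULift.up ((Scheme.ΓSpecIso (CommRingCat.of D)).inv b • unitEl F a D m.down)
          map_zero' := congrArg ULift.up ((congrArg _ (bc_zero _ _ _ _)).trans (smul_zero _))
          map_add' := fun m m' => congrArg ULift.up ((congrArg _ (bc_add _ _ _ _ _ _)).trans (smul_add _ _ _)) }
      map_zero' := AddMonoidHom.ext fun m => congrArg ULift.up
        ((congrArg (fun t => t • unitEl F a D m.down)
          (map_zero (Scheme.ΓSpecIso (CommRingCat.of D)).inv.hom)).trans (zero_smul _ _))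
      map_add' := fun b b' => AddMonoidHom.ext fun m => congrArg ULift.up
        ((congrArg (fun t => t • unitEl F a D m.down)
          (map_add (Scheme.ΓSpecIso (CommRingCat.of D)).inv.hom b b')).trans (add_smul _ _ _)) }
    fun r b m => by
      refine congrArg ULift.up ?_
      show (Scheme.ΓSpecIso (CommRingCat.of D)).inv (r • b) • unitEl F a D m.down =
        (Scheme.ΓSpecIso (CommRingCat.of D)).inv b •
          bc (bB D) a (bB D ≫ a) rfl ((Scheme.ΓSpecIso R).inv r • m.down)
      rw [bc_smul, Algebra.smul_def, ← smul_assoc, smul_eq_mul]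
      refine congrArg (fun t => t • unitEl F a D m.down) ?_
      refine (map_mul (Scheme.ΓSpecIso (CommRingCat.of D)).inv.hom _ _).trans ?_
      refine (mul_comm _ _).trans (congrArg _ ?_)
      refine (appLE_bB D r).symm.trans ?_
      exact ConcreteCategory.congr_hom (Scheme.Hom.appLE_eq_app (bB D) (U := ⊤)) ((Scheme.ΓSpecIso R).inv r)

theorem phiAb_tmul (D : Alg R) (b : D) (m : Mlift F a) :
    (phiAb F a D (b ⊗ₜ m)).down = (Scheme.ΓSpecIso (CommRingCat.of D)).inv b • unitEl F a D m.down :=
  rfl

theorem phiAb_bijective [F.IsQuasicoherent] (D : Alg R) : Function.Bijective (phiAb F a D) := by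
  let N := (Scheme.Modules.pullback a).obj F
  letI := sectionsAlg (bB D) (show (⊤ : (Spec (CommRingCat.of D)).Opens) ≤ bB D ⁻¹ᵁ ⊤ from le_top)
  let eD := (Scheme.ΓSpecIso (CommRingCat.of D)).commRingCatIsoToRingEquiv
  let Ψ := pullSecEquiv (bB D) N
    (show (⊤ : (Spec (CommRingCat.of D)).Opens) ≤ bB D ⁻¹ᵁ ⊤ from le_top) (isAffineOpen_top _) (isAffineOpen_top _)
  -- transport of the tensor product
  let fwd : (D ⊗[R] Mlift F a) →+
      Γ(Spec (CommRingCat.of D), ⊤) ⊗[Γ(Spec R, ⊤)] Γ(N, ⊤) :=
    TensorProduct.liftAddHom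
      { toFun := fun b =>
          { toFun := fun m => eD.symm b ⊗ₜ m.down
            map_zero' := tmul_zero _ _
            map_add' := fun m m' => tmul_add _ _ _ }
        map_zero' := AddMonoidHom.ext fun m => by
          show eD.symm 0 ⊗ₜ m.down = 0
          rw [map_zero, zero_tmul]
        map_add' := fun b b' => AddMonoidHom.ext fun m => by
          show eD.symm (b + b') ⊗ₜ m.down = eD.symm b ⊗ₜ m.down + eD.symm b' ⊗ₜ m.down
          rw [map_add, add_tmul] }
      fun r b m => by
        show eD.symm (r • b) ⊗ₜ m.down = eD.symm b ⊗ₜ ((Scheme.ΓSpecIso R).inv r • m.down)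
        rw [← smul_tmul, Algebra.smul_def, map_mul, Algebra.smul_def]
        exact congrArg (fun t => (t * eD.symm b) ⊗ₜ m.down) (appLE_bB D r).symm
  let bwd : Γ(Spec (CommRingCat.of D), ⊤) ⊗[Γ(Spec R, ⊤)] Γ(N, ⊤) →+ (D ⊗[R] Mlift F a) :=
    TensorProduct.liftAddHom
      { toFun := fun b =>
          { toFun := fun m => eD b ⊗ₜ (ULift.up m : Mlift F a)
            map_zero' := tmul_zero _ _
            map_add' := fun m m' => tmul_add (eD b) (ULift.up m : Mlift F a) (ULift.up m') }
        map_zero' := AddMonoidHom.ext fun m => by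
          show eD 0 ⊗ₜ[R] (ULift.up m : Mlift F a) = 0
          rw [map_zero, zero_tmul]
        map_add' := fun b b' => AddMonoidHom.ext fun m => by
          show eD (b + b') ⊗ₜ[R] (ULift.up m : Mlift F a) = eD b ⊗ₜ[R] (ULift.up m) + eD b' ⊗ₜ[R] (ULift.up m)
          rw [map_add, add_tmul] }
      fun r b m => by
        show eD (r • b) ⊗ₜ[R] (ULift.up m : Mlift F a) = eD b ⊗ₜ[R] (ULift.up (r • m) : Mlift F a)
        obtain ⟨r, rfl⟩ := (Scheme.ΓSpecIso R).symm.commRingCatIsoToRingEquiv.surjective r
        rw [Algebra.smul_def, map_mul]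
        refine Eq.trans ?_ (smul_tmul r (eD b) (ULift.up m : Mlift F a))
        rw [Algebra.smul_def]
        refine congrArg (fun t => (t * eD b) ⊗ₜ[R] (ULift.up m : Mlift F a)) ?_
        exact (congrArg eD (appLE_bB D r)).trans (eD.apply_symm_apply _)
  have h1 : ∀ x, bwd (fwd x) = x := fun x => by
    induction x using TensorProduct.induction_on with
    | zero => rw [map_zero, map_zero]
    | tmul b m =>
      show eD (eD.symm b) ⊗ₜ[R] (ULift.up m.down : Mlift F a) = b ⊗ₜ m
      rw [RingEquiv.apply_symm_apply]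
    | add x y hx hy => rw [map_add, map_add, hx, hy]
  have h2 : ∀ x, fwd (bwd x) = x := fun x => by
    induction x using TensorProduct.induction_on with
    | zero => rw [map_zero, map_zero]
    | tmul b m =>
      show eD.symm (eD b) ⊗ₜ m = b ⊗ₜ m
      rw [RingEquiv.symm_apply_apply]
    | add x y hx hy => rw [map_add, map_add, hx, hy]
  have h3 : ∀ x, phiAb F a D x =
      ULift.up (flat (N := F) a (bB D) (bB D ≫ a) rfl (Ψ (fwd x))) := fun x => by
    induction x using TensorProduct.induction_on with
    | zero =>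
      rw [map_zero, map_zero, map_zero]
      exact congrArg ULift.up (map_zero ((pullTo (bB D) a (bB D ≫ a) rfl F).hom.app ⊤).hom).symm
    | tmul b m =>
      refine congrArg ULift.up ?_
      show eD.symm b • unitEl F a D m.down = flat a (bB D) _ rfl (eD.symm b • el (bB D) le_top m.down)
      rw [flat_smul]
      exact congrArg _ (bc_eq_flat_el (bB D) a _ rfl m.down)
    | add x y hx hy =>
      rw [map_add, map_add, map_add, hx, hy]
      exact congrArg ULift.up (map_add ((pullTo (bB D) a (bB D ≫ a) rfl F).hom.app ⊤).hom _ _).symm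
  have hbij : Function.Bijective fwd := ⟨Function.LeftInverse.injective h1, Function.RightInverse.surjective h2⟩
  have : (phiAb F a D : _ → _) =
      ULift.up ∘ flat (N := F) a (bB D) (bB D ≫ a) rfl ∘ Ψ ∘ fwd := funext h3
  rw [this]
  exact Equiv.ulift.symm.bijective.comp ((flat_bijective a (bB D) _ rfl).comp (Ψ.bijective.comp hbij))

/-- `B ↦ Γ(Spec B, ·)` is the functor of the module `Γ(a^*F)`. -/
def phiIso [F.IsQuasicoherent] : abF (underlineObj R (Mlift F a)) ≅ affF a (bigPre F) :=
  NatIso.ofComponents
    (fun D => AddEquiv.toAddCommGrpIso (X := (abF (underlineObj R (Mlift F a))).obj D)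
      (Y := (affF a (bigPre F)).obj D) (AddEquiv.ofBijective (phiAb F a D) (phiAb_bijective F a D)))
    fun {D D'} φ => by
      ext x
      induction x using TensorProduct.induction_on with
      | zero => exact (map_zero _).trans (map_zero _).symm
      | tmul b m =>
        refine ULift.ext _ _ ?_
        show (Scheme.ΓSpecIso (CommRingCat.of D')).inv (φ.hom b) • unitEl F a D' m.down =
          bc (specHom φ) (bB D ≫ a) (bB D' ≫ a) _
            ((Scheme.ΓSpecIso (CommRingCat.of D)).inv b • unitEl F a D m.down)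
        rw [bc_smul]
        refine congrArg₂ (· • ·) ?_
          (bc_bc (specHom φ) (bB D) (bB D') (specHom_bB φ) a (bB D ≫ a) rfl (bB D' ≫ a) _ rfl m.down).symm
        exact ConcreteCategory.congr_hom
          (Scheme.ΓSpecIso_inv_naturality (CommRingCat.ofHom φ.hom.toRingHom)) b
      | add x y hx hy => exact (map_add _ x y).trans ((congrArg₂ (· + ·) hx hy).trans (map_add _ x y).symm)

theorem cechAcyclic_bigPre [F.IsQuasicoherent] {P : MorphismProperty Scheme.{u}} (hP : GoodProp P) :
    CechAcyclic P (bigPre F) := by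
  intro R a V hV hs n
  haveI : Module.FaithfullyFlat R V := by
    rw [← RingHom.faithfullyFlat_algebraMap_iff, RingHom.FaithfullyFlat.iff_flat_and_comap_surjective]
    exact ⟨(HasRingHomProperty.Spec_iff (P := @Flat)).1 (hP.le _ hV).1, hs⟩
  exact isExact_retract (phiIso F a).inv (phiIso F a).hom
    (fun D x => ConcreteCategory.congr_hom (congrArg (fun t => t.app D) (phiIso F a).inv_hom_id) x)
    (isExact_adequate (V : Type u) n (adequate_U (Mlift F a)))

end Groth.Misc3Zar

end
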