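import Groth.Agent.Misc3Zar.QCohGlue
import Groth.Prelude.Def_BigSite
import Groth.Prelude.Def_EtAssoc2
import Mathlib.CategoryTheory.Sites.Whiskering

/-!
# The sheaf `T ↦ Γ(T, t^*F)` on the big étale site
-/

set_option autoImplicit false
set_option backward.isDefEq.respectTransparency.types false

universe u v

open CategoryTheory Limits AlgebraicGeometry Opposite TopologicalSpace

namespace Groth.Misc3Zar

open Groth.DescentBase
open Groth.QCohMod (res res_res res_self)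
open Groth.PicAux (pullSec)

variable {S T T' : Scheme.{u}}

theorem bc_id {N : S.Modules} (g : T ⟶ S) (e : 𝟙 T ≫ g = g) (x : El N g) : bc (𝟙 T) g g e x = x := by
  have h : bc (𝟙 T) g g e (bc (𝟙 T) g g e x) = bc (𝟙 T) g g e x :=
    bc_bc (𝟙 T) (𝟙 T) (𝟙 T) (Category.id_comp _) g g e g e e x
  rw [← sub_eq_zero, ← bc_sub] at h
  exact sub_eq_zero.1 (eq_zero_of_bc (fun _ : Unit => 𝟙 T) (fun t => ⟨(), t, rfl⟩) g (fun _ => g)
    (fun _ => e) _ fun _ => h)

theorem bc_congr {N : S.Modules} {h h' : T' ⟶ T} (hh : h = h') (g : T ⟶ S) (g' : T' ⟶ S)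
    (e : h ≫ g = g') (x : El N g) : bc h g g' e x = bc h' g g' (hh ▸ e) x := by
  subst hh; rfl

/-- Base change of elements as an additive map. -/
noncomputable def bcHom (N : S.Modules) (h : T' ⟶ T) (g : T ⟶ S) (g' : T' ⟶ S) (e : h ≫ g = g') :
    El N g →+ El N g' where
  toFun := bc h g g' e
  map_zero' := bc_zero h g g' e
  map_add' := bc_add h g g' e

theorem bc_eq_flat_el {N : S.Modules} {Y : Scheme.{u}} (g : Y ⟶ T) (u : T ⟶ S) (y : Y ⟶ S)
    (e : g ≫ u = y) (n : El N u) :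
    bc g u y e n =
      flat u g y e (el (N := (Scheme.Modules.pullback u).obj N) (U := ⊤) g le_top n) :=
  congrArg ((pullTo g u y e N).hom.app ⊤)
    (res_self ((Scheme.Modules.pullback g).obj ((Scheme.Modules.pullback u).obj N))
      (pullSec g ((Scheme.Modules.pullback u).obj N) n)).symm

variable (F : S.Modules)

/-- `T ↦ Γ(T, t^*F)` on schemes over `S`. -/
noncomputable def bigPre : (Over S)ᵒᵖ ⥤ AddCommGrpCat.{u + 1} where
  obj X := AddCommGrpCat.of (ULift.{u + 1} (El F X.unop.hom))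
  map {X Y} φ := AddCommGrpCat.ofHom
    { toFun := fun x => ULift.up (bc φ.unop.left X.unop.hom Y.unop.hom (Over.w φ.unop) x.down)
      map_zero' := congrArg ULift.up (bc_zero _ _ _ _)
      map_add' := fun _ _ => congrArg ULift.up (bc_add _ _ _ _ _ _) }
  map_id X := by
    ext x
    exact bc_id X.unop.hom (Over.w (𝟙 X.unop)) x.down
  map_comp {X Y Z} φ ψ := by
    ext x
    exact (bc_bc ψ.unop.left φ.unop.left _ rfl X.unop.hom Y.unop.hom (Over.w φ.unop)
      Z.unop.hom (Over.w ψ.unop) (Over.w (φ ≫ ψ).unop) x.down).symm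

theorem bigPre_map_down {X Y : Over S} (φ : Y ⟶ X) (x : (bigPre F).obj (op X)) :
    ((bigPre F).map φ.op x).down = bc φ.left X.hom Y.hom (Over.w φ) x.down := rfl

section Glue

variable {F} [F.IsQuasicoherent] {κ : Type v} {Y : κ → Scheme.{u}} {g : ∀ k, Y k ⟶ T} (u : T ⟶ S)

/-- Compatible elements over a flat lfp covering of a test scheme come from a unique element. -/
theorem existsUnique_amalg [∀ k, Flat (g k)] [∀ k, LocallyOfFinitePresentation (g k)]
    (hsurj : ∀ t, ∃ k y, g k y = t) (y : ∀ k, Y k ⟶ S) (hy : ∀ k, g k ≫ u = y k)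
    (x : ∀ k, El F (y k))
    (hcompat : ∀ (k l : κ) (Z : Scheme.{u}) (a : Z ⟶ Y k) (b : Z ⟶ Y l) (z : Z ⟶ S) (ea : a ≫ y k = z)
      (eb : b ≫ y l = z), a ≫ g k = b ≫ g l → bc a (y k) z ea (x k) = bc b (y l) z eb (x l)) :
    ∃! s : El F u, ∀ k, bc (g k) u (y k) (hy k) s = x k := by
  let N := (Scheme.Modules.pullback u).obj F
  choose x' hx' using fun k => (flat_bijective (N := F) u (g k) (y k) (hy k)).2 (x k)
  have hc : GlueCompat (N := N) g x' := fun k l Z a b z ea eb => by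
    refine (flat_bijective (N := F) u z (z ≫ u) rfl).1 ?_
    have e₁ : a ≫ y k = z ≫ u := by rw [← hy k, ← ea, Category.assoc]
    have e₂ : b ≫ y l = z ≫ u := by rw [← hy l, ← eb, Category.assoc]
    refine (flat_bc u a (g k) z ea (y k) (hy k) (z ≫ u) rfl (x' k)).trans ?_
    refine Eq.trans ?_ (flat_bc u b (g l) z eb (y l) (hy l) (z ≫ u) rfl (x' l)).symm
    refine (congrArg (bc a (y k) (z ≫ u) e₁) (hx' k)).trans ?_
    refine Eq.trans ?_ (congrArg (bc b (y l) (z ≫ u) e₂) (hx' l)).symm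
    exact hcompat k l Z a b _ e₁ e₂ (ea.trans eb.symm)
  obtain ⟨n, hn⟩ := exists_glue hsurj hc
  refine ⟨n, fun k => ?_, fun s hs => ?_⟩
  · exact (bc_eq_flat_el (g k) u (y k) (hy k) n).trans ((congrArg _ (hn k)).trans (hx' k))
  · rw [← sub_eq_zero]
    refine eq_zero_of_bc g hsurj u y hy _ fun k => ?_
    rw [bc_sub, hs k, sub_eq_zero]
    exact ((bc_eq_flat_el (g k) u (y k) (hy k) n).trans ((congrArg _ (hn k)).trans (hx' k))).symm

end Glue

theorem isSheaf_bigPre [F.IsQuasicoherent] :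
    Presheaf.IsSheaf (QuotSh.J Scheme.etalePrecoverage S) (bigPre F) := by
  rw [Presheaf.isSheaf_iff_isSheaf_forget _ _ (CategoryTheory.forget AddCommGrpCat.{u + 1}),
    isSheaf_iff_isSheaf_of_type]
  intro U R hR x hx
  have hR' := hR
  rw [GrothendieckTopology.mem_over_iff] at hR'
  obtain ⟨R₀, hR₀, hle⟩ :=
    (Precoverage.mem_toGrothendieck_iff_of_isStableUnderComposition
      (J := Scheme.precoverage (@Etale : MorphismProperty Scheme.{u}))).1 hR'
  rw [Precoverage.mem_iff_exists_zeroHypercover] at hR₀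
  obtain ⟨𝒰, rfl⟩ := hR₀
  have hmem := 𝒰.mem₀
  rw [Scheme.ofArrows_mem_precoverage_iff] at hmem
  obtain ⟨hsurj, hP⟩ := hmem
  have : ∀ k, Etale (𝒰.f k) := hP
  have hRk : ∀ k, R (Over.homMk (𝒰.f k) : Over.mk (𝒰.f k ≫ U.hom) ⟶ U) := fun k =>
    (Sieve.overEquiv_iff R _).1 (hle _ _ ⟨k⟩)
  let x' : ∀ k, El F (𝒰.f k ≫ U.hom) := fun k => (x _ (hRk k)).down
  obtain ⟨s, hs, huniq⟩ := existsUnique_amalg (F := F) (g := 𝒰.f) U.hom hsurj
    (fun k => 𝒰.f k ≫ U.hom) (fun _ => rfl) x' fun k l Z a b z ea eb e => by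
      exact congrArg ULift.down (hx (Over.homMk a ea : Over.mk z ⟶ Over.mk (𝒰.f k ≫ U.hom))
        (Over.homMk b eb : Over.mk z ⟶ Over.mk (𝒰.f l ≫ U.hom)) (hRk k) (hRk l)
        (Over.OverMorphism.ext e))
  refine ⟨ULift.up s, fun V φ hφ => ULift.ext _ _ ?_, fun t ht => ULift.ext _ _ ?_⟩
  · show bc φ.left U.hom V.hom (Over.w φ) s = (x φ hφ).down
    rw [← sub_eq_zero]
    refine eq_zero_of_bc (fun k => pullback.fst φ.left (𝒰.f k)) (fun t => ?_) V.hom
      (fun k => pullback.fst φ.left (𝒰.f k) ≫ V.hom) (fun _ => rfl) _ fun k => ?_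
    · obtain ⟨k, y, hy⟩ := hsurj (φ.left t)
      obtain ⟨q, hq, -⟩ := Scheme.Pullback.exists_preimage_pullback t y hy.symm
      exact ⟨k, q, hq⟩
    · have e : pullback.snd φ.left (𝒰.f k) ≫ 𝒰.f k ≫ U.hom = pullback.fst φ.left (𝒰.f k) ≫ V.hom := by
        rw [← pullback.condition_assoc, Over.w φ]
      let p : Over.mk (pullback.fst φ.left (𝒰.f k) ≫ V.hom) ⟶ V :=
        Over.homMk (pullback.fst φ.left (𝒰.f k))
      let q : Over.mk (pullback.fst φ.left (𝒰.f k) ≫ V.hom) ⟶ Over.mk (𝒰.f k ≫ U.hom) :=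
        Over.homMk (pullback.snd φ.left (𝒰.f k)) e
      have hpq : p ≫ φ = q ≫ (Over.homMk (𝒰.f k) : Over.mk (𝒰.f k ≫ U.hom) ⟶ U) :=
        Over.OverMorphism.ext pullback.condition
      have h3 : (bigPre F).map p.op (x φ hφ) = (bigPre F).map q.op (x _ (hRk k)) :=
        hx p q hφ (hRk k) hpq
      have h2 : bc (pullback.fst φ.left (𝒰.f k)) V.hom _ rfl (x φ hφ).down =
          bc (pullback.snd φ.left (𝒰.f k)) (𝒰.f k ≫ U.hom) _ e (x' k) := congrArg ULift.down h3
      have e₁ : (pullback.fst φ.left (𝒰.f k) ≫ φ.left) ≫ U.hom = pullback.fst φ.left (𝒰.f k) ≫ V.hom := by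
        rw [Category.assoc, Over.w φ]
      have e₂ : (pullback.snd φ.left (𝒰.f k) ≫ 𝒰.f k) ≫ U.hom = pullback.fst φ.left (𝒰.f k) ≫ V.hom := by
        rw [Category.assoc]; exact e
      refine (bc_sub _ _ _ _ _ _).trans (sub_eq_zero.2 ?_)
      refine Eq.trans ?_ h2.symm
      refine Eq.trans ?_ (congrArg (bc (pullback.snd φ.left (𝒰.f k)) _ _ e) (hs k))
      refine (bc_bc (pullback.fst φ.left (𝒰.f k)) φ.left _ rfl U.hom V.hom (Over.w φ) _ rfl e₁ s).trans ?_
      refine Eq.trans ?_ (bc_bc (pullback.snd φ.left (𝒰.f k)) (𝒰.f k) _ rfl U.hom _ rfl _ e e₂ s).symm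
      exact bc_congr pullback.condition _ _ _ _
  · exact huniq t.down fun k => congrArg ULift.down (ht _ (hRk k))

/-- The sheaf `T ↦ Γ(T, t^*F)` on the big étale site. -/
noncomputable def bigSheaf [F.IsQuasicoherent] : BigSite.Ab Scheme.etalePrecoverage S :=
  ⟨bigPre F, isSheaf_bigPre F⟩

theorem resMap_eq_bc {U U' : S.Etale} (g : U' ⟶ U) (x : EtAssoc.obj F U) :
    EtAssoc.resMap F g x = bc g.left U.hom U'.hom (Over.w g.hom) x := by
  have h : EtAssoc.step2a F g = (pullTo g.left U.hom U'.hom (Over.w g.hom) F).hom := by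
    simp [EtAssoc.step2a, pullTo, Scheme.Modules.pullbackCongr]
  show (EtAssoc.step2a F g).app ⊤ (((Scheme.Modules.pullback g.left).obj
    ((Scheme.Modules.pullback U.hom).obj F)).presheaf.map (eqToHom _).op (pullSec g.left _ x)) = _
  rw [h]
  exact congrArg _ (res_self ((Scheme.Modules.pullback g.left).obj
    ((Scheme.Modules.pullback U.hom).obj F)) _)

end Groth.Misc3Zar
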