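import Groth.Agent.Misc3Zar.QCohEtale
import Groth.Agent.Misc3Zar.QCohAcyclic
import Groth.Agent.Misc3Zar.UnivCohomology
import Groth.Agent.MiscGeom.ZarCompare
import Groth.Agent.EtaleBase.StrictLocalZariski

/-!
# Étale cohomology of quasi-coherent modules is Zariski cohomology
-/

set_option autoImplicit false
set_option backward.isDefEq.respectTransparency.types false

universe u

open CategoryTheory Limits AlgebraicGeometry Opposite TopologicalSpace

noncomputable section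

namespace Groth.Misc3Zar

open Groth.DescentBase Groth.MiscGeom.Adq Groth.MiscGeom.Adq.Cech Groth.EtaleBase
open Groth.QCohMod (res)

/-- Opens to étale schemes is continuous. -/
theorem zarCont (S : Scheme.{u}) : EtZar.ZarCont S := by
  refine Functor.isContinuous_of_coverPreserving ⟨?_⟩ ⟨fun {U R} hR => ?_⟩
  · intro ℱ Z R x hx Y₁ Y₂ W f₁ f₂ g₁ g₂ hg₁ hg₂ _
    obtain ⟨h⟩ := StrictZar.nonempty_hom (d := W) (Y₁ ⊓ Y₂)
      (fun t ht => ⟨StrictZar.range_subset_of_hom f₁ ht, StrictZar.range_subset_of_hom f₂ ht⟩)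
    have e₁ : f₁ = h ≫ (EtZar.zarToEt S).map (homOfLE (inf_le_left : Y₁ ⊓ Y₂ ≤ Y₁)) :=
      (StrictZar.subsingleton_hom Y₁).elim _ _
    have e₂ : f₂ = h ≫ (EtZar.zarToEt S).map (homOfLE (inf_le_right : Y₁ ⊓ Y₂ ≤ Y₂)) :=
      (StrictZar.subsingleton_hom Y₂).elim _ _
    rw [e₁, e₂, op_comp, op_comp, Functor.map_comp_apply, Functor.map_comp_apply]
    exact congrArg _ (hx _ _ hg₁ hg₂ (Subsingleton.elim _ _))
  · rw [mem_topology_iff]
    intro t
    obtain ⟨V, i, hi, hV⟩ := hR t.1 t.2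
    exact ⟨(EtZar.zarToEt S).obj V, (EtZar.zarToEt S).map i, ⟨t.1, hV⟩,
      ⟨V, i, 𝟙 _, hi, (Category.id_comp _).symm⟩, Subtype.ext (by
        exact congrArg (fun (m : (V : Scheme.{u}) ⟶ S) => m ⟨t.1, hV⟩) (S.homOfLE_ι i.le))⟩

theorem goodProp_etale : GoodProp.{u} (@Etale : MorphismProperty Scheme.{u}) :=
  ⟨fun _ _ => ⟨inferInstance, inferInstance⟩, fun _ _ => inferInstance, inferInstance, inferInstance⟩

theorem stableProd_etale : StableProd.{u} (@Etale : MorphismProperty Scheme.{u}) := by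
  intro R κ _ Bk h
  let 𝒰 : (Spec (CommRingCat.of (prodAlg Bk))).OpenCover := Scheme.Cover.mkOfCovers κ
    (fun k => Spec (CommRingCat.of (Bk k))) (fun k => specHom (prodProj Bk k))
    (fun x => by
      obtain ⟨k, y, hy⟩ := (prodProj_covering goodProp_fppf Bk).2 x
      exact ⟨k, y, hy⟩)
    (fun k => by
      change IsOpenImmersion (Spec.map (CommRingCat.ofHom (Pi.evalRingHom (fun k => (Bk k : Type u)) k)))
      infer_instance)
  refine (IsZariskiLocalAtSource.iff_of_openCover 𝒰).2 fun k => ?_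
  show Etale (specHom (prodProj Bk k) ≫ bB (prodAlg Bk))
  rw [specHom_bB]
  exact h k

variable {S : Scheme.{u}} (F : S.Modules) [F.IsQuasicoherent]

/-- Sections over an open are elements over it. -/
def elEquiv (V : S.Opens) : Γ(F, V) ≃+ El F V.ι :=
  AddEquiv.ofBijective (AddMonoidHom.mk' (el V.ι (Scheme.Opens.ι_preimage_self V).ge) (el_add _ _))
    ⟨fun m n h => sub_eq_zero.1 (eq_zero_of_el (fun _ : Unit => V.ι)
      (fun _ => (Scheme.Opens.ι_preimage_self V).ge) (fun x hx => ⟨(), ⟨x, hx⟩, rfl⟩) _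
      fun _ => (el_sub _ _ _ _).trans (sub_eq_zero.2 h)), exists_el_eq V⟩

theorem bc_elEquiv {V W : S.Opens} (h : W ≤ V) (n : Γ(F, V)) :
    bc (S.homOfLE h) V.ι W.ι (S.homOfLE_ι h) (elEquiv F V n) = elEquiv F W (res F h n) := by
  show bc _ _ _ _ (el _ _ n) = el _ _ (res F h n)
  rw [el_res, bc_el]

theorem symm_bc_elEquiv {V W : S.Opens} (h : W ≤ V) (x : El F V.ι) :
    (elEquiv F W).symm (bc (S.homOfLE h) V.ι W.ι (S.homOfLE_ι h) x) = res F h ((elEquiv F V).symm x) := by
  rw [AddEquiv.symm_apply_eq, ← bc_elEquiv, AddEquiv.apply_symm_apply]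

/-- The Zariski restriction of the big sheaf is `F`. -/
theorem nonempty_resZar_bigSheaf [EtZar.ZarCont S] :
    Nonempty ((BigSite.resZar Scheme.etalePrecoverage S).obj (bigSheaf F) ≅
      (Univ.liftF S.toTopCat).obj (Coh.toAb F)) := by
  refine ⟨(sheafToPresheaf _ _).preimageIso (NatIso.ofComponents
    (fun V => AddEquiv.toAddCommGrpIso
      (X := ((BigSite.resZar Scheme.etalePrecoverage S).obj (bigSheaf F)).obj.obj V)
      (Y := ((Univ.liftF S.toTopCat).obj (Coh.toAb F)).obj.obj V)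
      (AddEquiv.ulift.trans ((elEquiv F V.unop).symm.trans AddEquiv.ulift.symm))) ?_)⟩
  intro V W i
  ext s
  exact congrArg ULift.up (symm_bc_elEquiv F i.unop.le s.down)

theorem cechAcyclic_bigSheaf : CechAcyclic (@Etale : MorphismProperty Scheme.{u}) (bigSheaf F).obj :=
  cechAcyclic_bigPre F goodProp_etale

/-- `H^q(S_et, F^a) = H^q(S, F)`. -/
theorem nonempty_H_assoc (G : EtCoh.Ab S) (hG : EtAssoc.IsAssoc F G) (q : ℕ) :
    Nonempty (EtCoh.H S G q ≃+ ULift.{u + 1} (Coh.HH S F q)) := by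
  haveI := zarCont S
  obtain ⟨e⟩ := nonempty_iso_smallSheaf F G hG
  obtain ⟨e'⟩ := nonempty_resZar_bigSheaf F
  obtain ⟨a⟩ := Groth.SiteCohomology.nonempty_H_resEt_equiv S (bigSheaf F) q
  haveI : BigSite.ZarCont (Scheme.precoverage (@Etale : MorphismProperty Scheme.{u})) S :=
    BigSite.zarCont_of_aEtCont Scheme.etalePrecoverage S
  obtain ⟨b⟩ := nonempty_resZar_equiv (P := (@Etale : MorphismProperty Scheme.{u})) goodProp_etale
    stableProd_etale (bigSheaf F) (cechAcyclic_bigSheaf F) q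
  obtain ⟨c⟩ := Univ.nonempty_H_liftF (Coh.toAb F) q
  exact ⟨((((Sheaf.functorH _ q).mapIso e).addCommGroupIsoToAddEquiv.trans a).trans b.symm).trans
    ((((Sheaf.functorH _ q).mapIso e').addCommGroupIsoToAddEquiv).trans c)⟩

end Groth.Misc3Zar

end
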