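import Groth.Agent.Misc3Zar.QCohBig
import Groth.Agent.SiteCohomology.BigEtaleCohomology

/-!
# The small étale sheaf associated to a quasi-coherent module
-/

set_option autoImplicit false
set_option backward.isDefEq.respectTransparency.types false

universe u

open CategoryTheory Limits AlgebraicGeometry Opposite TopologicalSpace

namespace Groth.Misc3Zar

open Groth.DescentBase

variable {S : Scheme.{u}} (F : S.Modules) [F.IsQuasicoherent]

/-- The associated small étale sheaf: restriction of the big one. -/
noncomputable def smallSheaf : EtCoh.Ab S :=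
  (BigSite.resEt Scheme.etalePrecoverage S).obj (bigSheaf F)

theorem isAssoc_smallSheaf : EtAssoc.IsAssoc F (smallSheaf F) :=
  ⟨fun U => AddEquiv.refl (ULift.{u + 1} (EtAssoc.obj F U)),
    fun _ _ g s => (resMap_eq_bc F g s.down).symm⟩

/-- Any associated sheaf is the restriction of the big one. -/
theorem nonempty_iso_smallSheaf (G : EtCoh.Ab S) (hG : EtAssoc.IsAssoc F G) :
    Nonempty (G ≅ smallSheaf F) := by
  obtain ⟨e, he⟩ := hG
  refine ⟨(sheafToPresheaf _ _).preimageIso (NatIso.ofComponents
    (fun U => AddEquiv.toAddCommGrpIso (X := G.obj.obj U) (Y := (smallSheaf F).obj.obj U) (e U.unop)) ?_)⟩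
  intro U U' g
  ext s
  exact ULift.ext _ _ ((he U.unop U'.unop g.unop s).trans (resMap_eq_bc F g.unop _))

end Groth.Misc3Zar
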