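import Groth.Agent.DescentBase.Pieces
import Groth.Agent.PicAux.Sections
import Mathlib.AlgebraicGeometry.Morphisms.UniversallyOpen
import Mathlib.AlgebraicGeometry.PullbackCarrier

/-!
# Gluing elements of a quasi-coherent module along flat, locally finitely presented families
-/

set_option autoImplicit false
set_option backward.isDefEq.respectTransparency.types false

universe u v

open CategoryTheory Limits AlgebraicGeometry Opposite TopologicalSpace

namespace Groth.Misc3Zar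

open Groth.DescentBase
open Groth.QCohMod (res res_res res_self)

variable {T : Scheme.{u}} {N : T.Modules} {κ : Type v} {Y : κ → Scheme.{u}} (g : ∀ k, Y k ⟶ T)
  (x : ∀ k, El N (g k))

/-- Agreement on pairs of test schemes. -/
def GlueCompat : Prop :=
  ∀ (k l : κ) (Z : Scheme.{u}) (a : Z ⟶ Y k) (b : Z ⟶ Y l) (z : Z ⟶ T) (ea : a ≫ g k = z)
    (eb : b ≫ g l = z), bc a (g k) z ea (x k) = bc b (g l) z eb (x l)

/-- `n` induces the given elements over `V`. -/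
def GlueChar (V : T.Opens) (n : Γ(N, V)) : Prop :=
  ∀ (k : κ) (Z : Scheme.{u}) (a : Z ⟶ Y k) (z : Z ⟶ T) (e : a ≫ g k = z) (h : ⊤ ≤ z ⁻¹ᵁ V),
    el z h n = bc a (g k) z e (x k)

variable {g x}

theorem GlueChar.res {V W : T.Opens} {n : Γ(N, V)} (hn : GlueChar g x V n) (hWV : W ≤ V) :
    GlueChar g x W (res N hWV n) := fun k Z a z e h => by
  rw [el_res]
  exact hn k Z a z e _

theorem GlueChar.unique [∀ k, Flat (g k)] (hsurj : ∀ t, ∃ k y, g k y = t) {V : T.Opens}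
    {n n' : Γ(N, V)} (hn : GlueChar g x V n) (hn' : GlueChar g x V n') : n = n' := by
  rw [← sub_eq_zero]
  refine eq_zero_of_el (fun k : κ => (g k ⁻¹ᵁ V).ι ≫ g k)
    (fun k y _ => by
      show ((g k ⁻¹ᵁ V).ι ≫ g k) y ∈ V
      exact y.2)
    (fun t ht => ?_) _ fun k => ?_
  · obtain ⟨k, y, rfl⟩ := hsurj t
    exact ⟨k, ⟨y, ht⟩, rfl⟩
  · rw [el_sub, sub_eq_zero, hn k _ (g k ⁻¹ᵁ V).ι _ rfl _, hn' k _ (g k ⁻¹ᵁ V).ι _ rfl _]

theorem exists_glueChar_of_affine [N.IsQuasicoherent] [∀ k, Flat (g k)]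
    [∀ k, LocallyOfFinitePresentation (g k)] (hsurj : ∀ t, ∃ k y, g k y = t)
    (hx : GlueCompat g x) {W : T.Opens} (hW : IsAffineOpen W) :
    ∃ n, GlueChar g x W n := by
  let J := Σ k : κ, {O : (Y k).Opens // IsAffineOpen O ∧ O ≤ g k ⁻¹ᵁ W}
  have hop : ∀ j : J, IsOpen (g j.1 '' (j.2.1 : Set (Y j.1))) := fun j =>
    (g j.1).isOpenMap _ j.2.1.2
  have hcov : (W : Set T) ⊆ ⋃ j : J, g j.1 '' (j.2.1 : Set (Y j.1)) := fun t ht => by
    obtain ⟨k, y, rfl⟩ := hsurj t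
    obtain ⟨_, ⟨O, hO, rfl⟩, hyO, hle⟩ := (Y k).isBasis_affineOpens.exists_subset_of_mem_open
      (show y ∈ (g k ⁻¹ᵁ W : (Y k).Opens) from ht) (g k ⁻¹ᵁ W).2
    exact Set.mem_iUnion.2 ⟨⟨k, O, hO, hle⟩, y, hyO, rfl⟩
  obtain ⟨s, hs⟩ := hW.isCompact.elim_finite_subcover _ hop hcov
  let n' := s.card
  let p : ULift.{u} (Fin n') → J := fun i => s.toList.get (Fin.cast (Finset.length_toList s).symm i.down)
  let Z : ULift.{u} (Fin n') → Scheme.{u} := fun i => (p i).2.1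
  have : ∀ i, IsAffine (Z i) := fun i => (p i).2.2.1
  let ι : ∀ i, Z i ⟶ Y (p i).1 := fun i => (p i).2.1.ι
  let c : ∀ i, Z i ⟶ T := fun i => ι i ≫ g (p i).1
  have : ∀ i, Flat (c i) := fun i => inferInstanceAs (Flat ((p i).2.1.ι ≫ g (p i).1))
  have hc : ∀ i, ⊤ ≤ c i ⁻¹ᵁ W := fun i y _ => (p i).2.2.2 y.2
  have hsurjW : ∀ t ∈ W, ∃ i y, c i y = t := fun t ht => by
    obtain ⟨j, hj, y, hy, rfl⟩ := Set.mem_iUnion₂.1 (hs ht)
    obtain ⟨m, hm⟩ := List.get_of_mem (Finset.mem_toList.2 hj)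
    let i : ULift.{u} (Fin n') := ⟨Fin.cast (Finset.length_toList s) m⟩
    have hi : p i = j := hm
    subst hi
    exact ⟨i, ⟨y, hy⟩, rfl⟩
  obtain ⟨n, hn⟩ := exists_el_eq_of_compat N hW c hc hsurjW
    (fun i => bc (ι i) (g (p i).1) (c i) rfl (x (p i).1)) fun i j => by
      rw [bc_bc (pairFst (c i) (hc i) (c j) (hc j)) (ι i) _ rfl (g (p i).1) (c i) rfl _ rfl
          (Category.assoc _ _ _),
        bc_bc (pairSnd (c i) (hc i) (c j) (hc j)) (ι j) _ rfl (g (p j).1) (c j) rfl _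
          (pair_condition hW _ _ _ _).symm
          ((Category.assoc _ _ _).trans (pair_condition hW _ _ _ _).symm)]
      exact hx _ _ _ _ _ _ _ _
  refine ⟨n, fun k Z' a z e h => ?_⟩
  rw [← sub_eq_zero]
  refine eq_zero_of_bc (fun i => pullback.fst z (c i)) (fun t => ?_) z
    (fun i => pullback.fst z (c i) ≫ z) (fun _ => rfl) _ fun i => ?_
  · obtain ⟨i, y, hy⟩ := hsurjW (z t) (h trivial)
    obtain ⟨q, hq, -⟩ := Scheme.Pullback.exists_preimage_pullback t y hy.symm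
    exact ⟨i, q, hq⟩
  · rw [bc_sub, sub_eq_zero]
    calc bc (pullback.fst z (c i)) z _ rfl (el z h n)
        = el (pullback.fst z (c i) ≫ z) ((pullback.fst z (c i)).preimage_mono h) n := bc_el ..
      _ = bc (pullback.snd z (c i)) (c i) _ pullback.condition.symm (el (c i) (hc i) n) :=
          (bc_el ..).symm
      _ = bc (pullback.snd z (c i) ≫ ι i) (g (p i).1) _
            ((Category.assoc _ _ _).trans pullback.condition.symm) (x (p i).1) := by
          rw [hn i]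
          exact bc_bc _ _ _ rfl _ _ _ _ _ _ _
      _ = bc (pullback.fst z (c i) ≫ a) (g k) _ ((Category.assoc _ _ _).trans (by rw [e])) (x k) :=
          hx _ _ _ _ _ _ _ _
      _ = _ := (bc_bc _ _ _ rfl _ _ _ _ _ _ _).symm

/-- Compatible elements glue. -/
theorem exists_glue [N.IsQuasicoherent] [∀ k, Flat (g k)] [∀ k, LocallyOfFinitePresentation (g k)]
    (hsurj : ∀ t, ∃ k y, g k y = t) (hx : GlueCompat g x) :
    ∃ n : Γ(N, (⊤ : T.Opens)), ∀ k, el (g k) le_top n = x k := by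
  let J := {W : T.Opens // IsAffineOpen W}
  choose m hm using fun W : J => exists_glueChar_of_affine hsurj hx W.2
  have hcov : (⊤ : T.Opens) ≤ ⨆ W : J, W.1 := fun t _ => by
    obtain ⟨_, ⟨V, hV, rfl⟩, htV, -⟩ := T.isBasis_affineOpens.exists_subset_of_mem_open
      (Set.mem_univ t) isOpen_univ
    exact Opens.mem_iSup.2 ⟨⟨V, hV⟩, htV⟩
  obtain ⟨n, hn, -⟩ := Groth.PicAux.res_glue (M := N) (fun W : J => W.1) (fun _ => le_top) hcov m
    fun W W' => ((hm W).res _).unique hsurj ((hm W').res _)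
  refine ⟨n, fun k => ?_⟩
  rw [← sub_eq_zero]
  refine eq_zero_of_bc (fun W : J => (g k ⁻¹ᵁ W.1).ι) (fun y => ?_) (g k)
    (fun W => (g k ⁻¹ᵁ W.1).ι ≫ g k) (fun _ => rfl) _ fun W => ?_
  · obtain ⟨W, hW⟩ := Opens.mem_iSup.1 (hcov (show g k y ∈ (⊤ : T.Opens) from trivial))
    exact ⟨W, ⟨y, hW⟩, rfl⟩
  · rw [bc_sub, sub_eq_zero, bc_el]
    refine Eq.trans ?_ (hm W k _ (g k ⁻¹ᵁ W.1).ι _ rfl (fun y _ => y.2))
    rw [← hn W]
    exact (el_res _ _ _ _).symm

end Groth.Misc3Zar
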