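import Groth.Prelude.Def_CohTop
import Mathlib.Algebra.Category.Grp.Ulift
import Mathlib.Algebra.Category.Grp.Injective
import Mathlib.Algebra.Colimit.Module
import Mathlib.Algebra.Module.CharacterModule
import Mathlib.Topology.Sheaves.SheafOfFunctions
import Mathlib.Topology.Sheaves.Stalks
import Mathlib.CategoryTheory.Sites.Whiskering

/-!
# Raising the universe of values preserves injective abelian sheaves on a space
-/

set_option autoImplicit false
set_option backward.isDefEq.respectTransparency.types false

universe u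

open CategoryTheory Limits Opposite TopologicalSpace

noncomputable section

namespace Groth.Misc3Zar.Univ

variable {X : TopCat.{u}}

instance hasSheafCompose_ulift : (Opens.grothendieckTopology X).HasSheafCompose
    AddCommGrpCat.uliftFunctor.{u + 1, u} := inferInstance

/-- Sheaves with values one universe up. -/
abbrev AbUp (X : TopCat.{u}) : Type (u + 2) := Sheaf (Opens.grothendieckTopology X) AddCommGrpCat.{u + 1}

/-- Raising the universe. -/
abbrev liftF (X : TopCat.{u}) : CohTop.Ab X ⥤ AbUp X :=
  sheafCompose (Opens.grothendieckTopology X) AddCommGrpCat.uliftFunctor.{u + 1, u}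

section Product

variable (T : X → Type u) [∀ x, AddCommGroup (T x)]

/-- `U ↦ ∏_{x ∈ U} T x`. -/
def prodPre : (Opens X)ᵒᵖ ⥤ AddCommGrpCat.{u} where
  obj U := AddCommGrpCat.of (∀ y : U.unop, T y)
  map i := AddCommGrpCat.ofHom (AddMonoidHom.mk' (fun g y => g (i.unop y)) fun _ _ => rfl)

/-- The sheaf of discontinuous sections. -/
def prodSheaf : CohTop.Ab X :=
  ⟨prodPre T, (TopCat.Presheaf.isSheaf_iff_isSheaf_comp' (forget AddCommGrpCat.{u}) (prodPre T)).2
    (TopCat.Presheaf.toTypes_isSheaf X T)⟩

/-- Open neighbourhoods, ordered by reverse inclusion. -/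
abbrev Nhd (x : X) : Type u := OrderDual {U : Opens X // x ∈ U}

instance isDirected_nhd (x : X) : IsDirectedOrder (Nhd x) :=
  ⟨fun U V => ⟨OrderDual.toDual ⟨(OrderDual.ofDual U).1 ⊓ (OrderDual.ofDual V).1,
    ⟨(OrderDual.ofDual U).2, (OrderDual.ofDual V).2⟩⟩, OrderDual.le_toDual.2 (Subtype.coe_le_coe.1 inf_le_left),
    OrderDual.le_toDual.2 (Subtype.coe_le_coe.1 inf_le_right)⟩⟩

instance nonempty_nhd (x : X) : Nonempty (Nhd x) := ⟨OrderDual.toDual ⟨⊤, trivial⟩⟩

/-- Sections over a neighbourhood. -/
abbrev secAt (G : AbUp X) (x : X) (U : Nhd x) : Type (u + 1) := G.obj.obj (op (OrderDual.ofDual U).1)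

/-- Restriction between neighbourhoods. -/
def resAt (G : AbUp X) (x : X) (U V : Nhd x) (h : U ≤ V) : secAt G x U →+ secAt G x V :=
  (G.obj.map (homOfLE (show (OrderDual.ofDual V).1 ≤ (OrderDual.ofDual U).1 from h)).op).hom

instance directedSystem_resAt (G : AbUp X) (x : X) :
    DirectedSystem (secAt G x) fun U V h => resAt G x U V h where
  map_self U a := ConcreteCategory.congr_hom (G.obj.map_id (op (OrderDual.ofDual U).1)) a
  map_map U V W h h' a := (Functor.map_comp_apply G.obj _ _ a).symm

set_option maxHeartbeats 1000000 in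
/-- With divisible factors, `U ↦ ULift ∏_{x ∈ U} T x` is injective. -/
theorem injective_liftF_prodSheaf [∀ x, DivisibleBy (T x) ℤ] :
    Injective ((liftF X).obj (prodSheaf T)) := by
  classical
  refine ⟨fun {G G'} φ f hf => ?_⟩
  have hinj : ∀ U, Function.Injective (f.hom.app U) := fun U => by
    let E := sheafToPresheaf (Opens.grothendieckTopology X) AddCommGrpCat.{u + 1} ⋙ (evaluation _ _).obj U
    haveI : PreservesFiniteLimits E := inferInstance
    haveI : Mono (E.map f) := preserves_mono_of_preservesLimit E f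
    exact (AddCommGrpCat.mono_iff_injective _).1 (inferInstanceAs (Mono (E.map f)))
  let c : ∀ (x : X) (U : Nhd x), secAt G x U →+ T x := fun x U =>
    AddMonoidHom.mk' (fun s => (φ.hom.app (op (OrderDual.ofDual U).1) s).down ⟨x, (OrderDual.ofDual U).2⟩)
      fun a b => by rw [map_add]; rfl
  have hc : ∀ (x : X) (U V : Nhd x) (h : U ≤ V) (s : secAt G x U),
      c x V (resAt G x U V h s) = c x U s := fun x U V h s =>
    congrArg (fun t : ULift.{u + 1} (∀ y : (OrderDual.ofDual V).1, T y) => t.down ⟨x, (OrderDual.ofDual V).2⟩)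
      (NatTrans.naturality_apply φ.hom (homOfLE (show (OrderDual.ofDual V).1 ≤ (OrderDual.ofDual U).1 from h)).op s)
  let DG : X → Type (u + 1) := fun x => AddCommGroup.DirectLimit (secAt G x) (resAt G x)
  let DG' : X → Type (u + 1) := fun x => AddCommGroup.DirectLimit (secAt G' x) (resAt G' x)
  let fx : ∀ x, DG x →+ DG' x := fun x =>
    AddCommGroup.DirectLimit.map (fun U => (f.hom.app (op (OrderDual.ofDual U).1)).hom)
      fun U V h => AddMonoidHom.ext fun s => NatTrans.naturality_apply f.hom _ s
  have hfx : ∀ x, Function.Injective (fx x) := fun x => (injective_iff_map_eq_zero _).2 fun z hz => by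
    induction z using AddCommGroup.DirectLimit.induction_on with
    | ih U s =>
      rw [AddCommGroup.DirectLimit.map_apply_of] at hz
      obtain ⟨V, hV, hs⟩ := AddCommGroup.DirectLimit.of.zero_exact U _ hz
      have h0 : resAt G x U V hV s = 0 := hinj _ ((NatTrans.naturality_apply f.hom _ s).trans
        (hs.trans (map_zero _).symm))
      rw [← AddCommGroup.DirectLimit.of_f hV s, h0, map_zero]
  have hext : ∀ x, ∃ ψ : DG' x →+ T x, ∀ (U : Nhd x) (s : secAt G x U),
      ψ (AddCommGroup.DirectLimit.of _ _ U (f.hom.app (op (OrderDual.ofDual U).1) s)) = c x U s := fun x => by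
    obtain ⟨ψ, hψ⟩ := Module.Baer.extension_property_addMonoidHom (Module.Baer.of_divisible (T x))
      (fx x) (hfx x) (AddCommGroup.DirectLimit.lift _ _ _ (c x) (hc x))
    refine ⟨ψ, fun U s => ?_⟩
    have h1 := DFunLike.congr_fun hψ (AddCommGroup.DirectLimit.of _ _ U s)
    refine Eq.trans ?_ (h1.trans (AddCommGroup.DirectLimit.lift_of (T x) (c x) (hc x) U s))
    exact congrArg ψ (AddCommGroup.DirectLimit.map_apply_of
      (fun V : Nhd x => (f.hom.app (op (OrderDual.ofDual V).1)).hom)
      (fun V V' h => AddMonoidHom.ext fun s => NatTrans.naturality_apply f.hom _ s) s).symm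
  choose ψ hψ using hext
  let comp : ∀ (U : (Opens X)ᵒᵖ) (y : U.unop), G'.obj.obj U →+ T y := fun U y =>
    (ψ y).comp (AddCommGroup.DirectLimit.of (secAt G' y) (resAt G' y) (OrderDual.toDual ⟨U.unop, y.2⟩))
  let app : ∀ U : (Opens X)ᵒᵖ, G'.obj.obj U ⟶ ((liftF X).obj (prodSheaf T)).obj.obj U := fun U =>
    AddCommGrpCat.ofHom (AddMonoidHom.mk' (fun s => ULift.up fun y => comp U y s)
      fun a b => congrArg ULift.up (funext fun y => map_add (comp U y) a b))
  refine ⟨⟨{ app := app, naturality := fun {U V} i => ?_ }⟩, ?_⟩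
  · ext s : 2
    refine congrArg ULift.up ?_
    funext y
    show comp V y (G'.obj.map i s) = comp U (i.unop y) s
    refine congrArg (ψ y) ?_
    exact AddCommGroup.DirectLimit.of_f (f := resAt G' y)
      (i := OrderDual.toDual ⟨U.unop, i.unop.le y.2⟩) (j := OrderDual.toDual ⟨V.unop, y.2⟩) i.unop.le s
  · apply Sheaf.hom_ext
    refine NatTrans.ext (funext fun U => AddCommGrpCat.hom_ext (AddMonoidHom.ext fun s => ?_))
    refine congrArg ULift.up ?_
    funext y
    exact hψ y.1 (OrderDual.toDual ⟨U.unop, y.2⟩) s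

end Product

/-- The fibre used to embed a sheaf in a product. -/
abbrev charAt (F : CohTop.Ab X) (x : X) : Type u :=
  CharacterModule (TopCat.Presheaf.stalk (C := AddCommGrpCat.{u}) F.obj x) → AddCircle (1 : ℚ)

/-- Raising the universe preserves injective sheaves. -/
theorem injective_liftF (I : CohTop.Ab X) [Injective I] : Injective ((liftF X).obj I) := by
  let γ : I ⟶ prodSheaf (charAt I) := ⟨{
    app := fun U => AddCommGrpCat.ofHom (AddMonoidHom.mk'
      (fun s y χ => χ (TopCat.Presheaf.germ (C := AddCommGrpCat.{u}) I.obj U.unop y.1 y.2 s))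
      fun a b => funext fun y => funext fun χ => by
        show χ _ = χ _ + χ _
        rw [map_add, map_add])
    naturality := fun U V i => by
      ext s
      funext y χ
      exact congrArg χ (TopCat.Presheaf.germ_res_apply' I.obj i y.1 y.2 s) }⟩
  have hγ : Mono γ := by
    haveI : ∀ U, Mono (γ.hom.app U) := fun U => (AddCommGrpCat.mono_iff_injective _).2 fun s t hst => by
      refine TopCat.Presheaf.section_ext (⟨I.obj, I.property⟩ : TopCat.Sheaf AddCommGrpCat.{u} X) U.unop s t
        fun x hx => ?_
      refine sub_eq_zero.1 (CharacterModule.eq_zero_of_character_apply fun χ => ?_)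
      rw [map_sub, sub_eq_zero]
      exact congrFun (congrFun hst ⟨x, hx⟩) χ
    haveI : Mono γ.hom := NatTrans.mono_of_mono_app _
    exact Sheaf.Hom.mono_of_presheaf_mono _ _ γ
  let r : prodSheaf (charAt I) ⟶ I := Injective.factorThru (𝟙 I) γ
  haveI := injective_liftF_prodSheaf (charAt I)
  let ρ : Retract ((liftF X).obj I) ((liftF X).obj (prodSheaf (charAt I))) :=
    { i := (liftF X).map γ
      r := (liftF X).map r
      retract := by rw [← Functor.map_comp, Injective.comp_factorThru]; exact (liftF X).map_id I }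
  exact ρ.injective

end Groth.Misc3Zar.Univ

end
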